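import Mathlib
import Cfsg.Agent.Lib.SylTwoAbel.Reduce
import Cfsg.Agent.Lib.SpecLin.SLTwoTrace
import Cfsg.Agent.Lib.PCore.Basic

/-!
# Abelian Sylow 2-subgroups in which every involution is a square

A group whose Sylow 2-subgroups are abelian of exponent four with every involution a square is solvable.
-/

set_option autoImplicit false
set_option linter.style.haveILetI false
set_option linter.unusedSectionVars false

namespace CfsgLib.UThreeSylow

open Subgroup

universe u

section PSL

open Matrix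

variable {F : Type*} [Field F] [Fintype F]

theorem psl_sq_eq_one (h2 : (2 : F) = 0) {x : ProjectiveSpecialLinearGroup (Fin 2) F} {k : ℕ}
    (hx : x ^ 2 ^ k = 1) : x ^ 2 = 1 := by
  obtain ⟨M, rfl⟩ := QuotientGroup.mk_surjective x
  refine SpecLin.SLTwo.sq_eq_one_of_trace_eq_zero ?_
  rw [← QuotientGroup.mk_pow, QuotientGroup.eq_one_iff, SpecLin.SLTwo.mem_center_iff'] at hx
  have hm1 : (-1 : Matrix (Fin 2) (Fin 2) F) = 1 := by
    ext i j
    fin_cases i <;> fin_cases j <;> simp
    all_goals linear_combination -h2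
  have h1 : ((M : Matrix (Fin 2) (Fin 2) F)) ^ 2 ^ k = 1 := by
    refine (Matrix.SpecialLinearGroup.coe_pow M (2 ^ k)).symm.trans ?_
    rcases hx with h | h
    · exact h
    · exact h.trans hm1
  have htr : ∀ (j : ℕ) (A : Matrix (Fin 2) (Fin 2) F), A.det = 1 → (A ^ 2 ^ j).trace = A.trace ^ 2 ^ j := by
    intro j
    induction j with
    | zero => intro A _; simp
    | succ j ih =>
      intro A hA
      rw [pow_succ' 2, pow_mul, pow_mul, ih (A ^ 2) (by rw [det_pow, hA, one_pow]), pow_two A,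
        SpecLin.SLTwo.sq_eq A hA, trace_sub, trace_smul, trace_one, Fintype.card_fin, smul_eq_mul]
      congr 1
      push_cast
      linear_combination (-1 : F) * h2
  have h0 : ((M : Matrix (Fin 2) (Fin 2) F)).trace ^ 2 ^ k = 0 := by
    rw [← htr k _ M.prop, h1, trace_one, Fintype.card_fin]
    exact_mod_cast h2
  exact eq_zero_of_pow_eq_zero h0

theorem psl_isConj (h2 : (2 : F) = 0) {x y : ProjectiveSpecialLinearGroup (Fin 2) F}
    (hx : orderOf x = 2) (hy : orderOf y = 2) : IsConj x y := by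
  obtain ⟨M, rfl⟩ := QuotientGroup.mk_surjective x
  obtain ⟨N, rfl⟩ := QuotientGroup.mk_surjective y
  have key : ∀ M : SpecialLinearGroup (Fin 2) F,
      orderOf (QuotientGroup.mk M : ProjectiveSpecialLinearGroup (Fin 2) F) = 2 →
      (M : Matrix (Fin 2) (Fin 2) F).trace = 0 ∧ ∀ s : F, (M : Matrix (Fin 2) (Fin 2) F) ≠ s • 1 := by
    intro M hM
    have hc : M ∉ Subgroup.center (SpecialLinearGroup (Fin 2) F) := fun h => by
      rw [(QuotientGroup.eq_one_iff M).2 h, orderOf_one] at hM
      exact absurd hM (by norm_num)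
    have hns : ∀ s : F, (M : Matrix (Fin 2) (Fin 2) F) ≠ s • 1 := fun s h =>
      hc (SpecLin.SLTwo.mem_center_of_scalar h)
    refine ⟨?_, hns⟩
    have h1 : M ^ 2 ∈ Subgroup.center (SpecialLinearGroup (Fin 2) F) := by
      rw [← QuotientGroup.eq_one_iff, QuotientGroup.mk_pow]
      have h := pow_orderOf_eq_one (QuotientGroup.mk M : ProjectiveSpecialLinearGroup (Fin 2) F)
      rwa [hM] at h
    rw [SpecLin.SLTwo.mem_center_iff'] at h1
    have hm1 : (-1 : Matrix (Fin 2) (Fin 2) F) = 1 := by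
      ext i j
      fin_cases i <;> fin_cases j <;> simp
      all_goals linear_combination -h2
    have h3 : ((M : Matrix (Fin 2) (Fin 2) F)) * M = 1 := by
      refine ((pow_two _).symm.trans (Matrix.SpecialLinearGroup.coe_pow M 2).symm).trans ?_
      rcases h1 with h | h
      · exact h
      · exact h.trans hm1
    rw [SpecLin.SLTwo.sq_eq _ M.prop, sub_eq_iff_eq_add] at h3
    refine (smul_eq_zero.1 (h3.trans ?_)).resolve_right fun h => hns 0 (by rw [h, zero_smul])
    ext i j
    fin_cases i <;> fin_cases j <;> simp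
    all_goals linear_combination h2
  obtain ⟨hM, hMs⟩ := key M hx
  obtain ⟨hN, hNs⟩ := key N hy
  exact (QuotientGroup.mk' _).map_isConj
    (SpecLin.SLTwo.isConj_of_trace_eq (Or.inl h2) hMs hNs (hM.trans hN.symm))

end PSL

variable {G : Type u} [Group G] [Finite G]

/-- A simple group with abelian Sylow 2-subgroup of rank at least three and solvable centralisers is
`PSL₂` in characteristic two. -/
theorem psl_of_rank_three [IsSimpleGroup G] (S : Sylow 2 G)
    (hcomm : ∀ x ∈ (S : Subgroup G), ∀ y ∈ (S : Subgroup G), x * y = y * x)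
    (hC : ∀ t : G, orderOf t = 2 → Group.IsSolvable ↥(centralizer ({t} : Set G)))
    (h3 : ¬ Cfsg.PRankLE 2 2 ↥(S : Subgroup G)) :
    ∃ (F : Type) (_ : Field F) (_ : Fintype F), (2 : F) = 0 ∧
      Nonempty (G ≃* Matrix.ProjectiveSpecialLinearGroup (Fin 2) F) := by
  haveI : Fact (Nat.Prime 2) := ⟨Nat.prime_two⟩
  obtain ⟨F, iF, iFt, hgood, ⟨e⟩⟩ := SylTwoAbel.exists_psl_of_rank_three S hcomm hC h3
  refine ⟨F, iF, iFt, ?_, ⟨e⟩⟩
  rcases hgood with ⟨hm, -⟩ | ⟨n, hn, hcard⟩
  · exfalso
    have h8 : 8 ∣ Nat.card G := by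
      simp only [Cfsg.PRankLE, not_forall, not_le] at h3
      obtain ⟨A, -, -, hA⟩ := h3
      obtain ⟨k, hk⟩ := IsPGroup.iff_card.1 (S.2.to_subgroup A)
      rw [hk] at hA
      have h3k : 2 < k := (Nat.pow_lt_pow_iff_right (by norm_num)).1 hA
      exact ((show 8 ∣ 2 ^ k from pow_dvd_pow 2 h3k).trans (hk ▸ A.card_subgroup_dvd_card)).trans
        (S : Subgroup G).card_subgroup_dvd_card
    have hc := CfsgLib.PSL2.card_psl (F := F)
    set q := Fintype.card F
    rw [← Nat.card_congr e.toEquiv] at hc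
    obtain ⟨c, hc8⟩ := h8
    rw [Nat.gcd_eq_left (show 2 ∣ q - 1 by omega), hc8] at hc
    have hd : 16 ∣ q * (q ^ 2 - 1) := ⟨c, by
      have e1 : q ^ 2 - 1 = (q + 1) * (q - 1) := by simpa using Nat.sq_sub_sq q 1
      linear_combination hc.symm + q * e1⟩
    have hco : Nat.Coprime 16 q :=
      (Nat.Coprime.pow_left 4 (Nat.coprime_two_left.2 (Nat.odd_iff.2 (by omega))) : _)
    have := hco.dvd_of_dvd_mul_left hd
    have hq2 : q ^ 2 % 16 = (q % 16) ^ 2 % 16 := Nat.pow_mod q 2 16
    have hq8 : q % 16 = 3 ∨ q % 16 = 5 ∨ q % 16 = 11 ∨ q % 16 = 13 := by omega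
    rcases hq8 with h | h | h | h <;> rw [h] at hq2 <;> omega
  · have : CharP F 2 := by
      obtain ⟨p, hp⟩ := CharP.exists F
      obtain ⟨m, hpp, hm⟩ := FiniteField.card F p
      have hp2 : p = 2 := by
        have h2 : p ∣ 2 ^ n := hcard ▸ hm.symm ▸ dvd_pow_self p m.2.ne'
        exact (Nat.prime_dvd_prime_iff_eq hpp Nat.prime_two).1 (hpp.dvd_of_dvd_pow h2)
      exact hp2 ▸ hp
    exact_mod_cast CharP.cast_eq_zero F 2

/-- A nonsolvable simple group with abelian Sylow 2-subgroup and solvable centralisers of involutions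
has Sylow 2-subgroups of exponent two. -/
theorem exp_two_of_simple [IsSimpleGroup G] (hns : ¬ Group.IsSolvable G) (S : Sylow 2 G)
    (hcomm : ∀ x ∈ (S : Subgroup G), ∀ y ∈ (S : Subgroup G), x * y = y * x)
    (hC : ∀ t : G, orderOf t = 2 → Group.IsSolvable ↥(centralizer ({t} : Set G)))
    {x : G} (hx : x ∈ (S : Subgroup G)) : x * x = 1 := by
  classical
  haveI : Fact (Nat.Prime 2) := ⟨Nat.prime_two⟩
  by_cases h3 : Cfsg.PRankLE 2 2 ↥(S : Subgroup G)
  swap
  · obtain ⟨F, iF, iFt, h2, ⟨e⟩⟩ := psl_of_rank_three S hcomm hC h3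
    obtain ⟨k, hk⟩ := S.2 ⟨x, hx⟩
    have hk' : x ^ 2 ^ k = 1 := congrArg Subtype.val hk
    have h := psl_sq_eq_one h2 (x := e x) (k := k) (by rw [← map_pow, hk', map_one])
    rw [← map_pow, map_eq_one_iff e e.injective, pow_two] at h
    exact h
  have hG : ¬ IsMulCommutative G := fun h => hns (Group.isSolvable_of_comm fun a b => h.is_comm.comm a b)
  let F16 := GaloisField 2 4
  letI : Fintype F16 := Fintype.ofFinite _
  have hF16 : Fintype.card F16 = 16 := by
    rw [← Nat.card_eq_fintype_card, GaloisField.card 2 4 (by norm_num)]; norm_num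
  have htypes := CfsgLib.RankTwoTypes.sylow_types_of_oddSolvable
    (fun X i1 i2 hX => @CfsgLib.PF.oddSolvable.{u} X i1 i2 hX) hG (SylTwoAbel.prankLE_of_sylow S h3) S hF16
    (Classical.arbitrary (Sylow 2 (Cfsg.PSU 3 F16 4)))
  have hSab : ∀ a b : ↥(S : Subgroup G), a * b = b * a := fun a b => Subtype.ext (hcomm _ a.2 _ b.2)
  rcases htypes with ⟨n, hn, ⟨e⟩⟩ | ⟨n, hn, -, a, b, ha, hb, hab⟩ |
    ⟨n, hn, -, a, b, c, ha, -, hdisj, -, hca⟩ | ⟨⟨e⟩⟩
  · have hn2 : n = 2 := by
      have h := congrArg e (hSab (e.symm (DihedralGroup.sr 0)) (e.symm (DihedralGroup.r 1)))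
      rw [map_mul, map_mul, e.apply_symm_apply, e.apply_symm_apply, DihedralGroup.sr_mul_r,
        DihedralGroup.r_mul_sr, DihedralGroup.sr.injEq] at h
      have h2 : ((2 : ℕ) : ZMod n) = 0 := by linear_combination h
      rw [ZMod.natCast_eq_zero_iff] at h2
      have := Nat.le_of_dvd two_pos h2
      omega
    subst hn2
    have hd : ∀ d : DihedralGroup 2, d * d = 1 := by decide
    exact congrArg Subtype.val (e.injective (a₁ := ⟨x, hx⟩ * ⟨x, hx⟩) (a₂ := 1)
      (by rw [map_mul, map_one]; exact hd _))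
  · exfalso
    rw [hSab b a, mul_inv_cancel_right] at hab
    have h2 : 2 ^ n ∣ 2 ^ (n - 1) - 1 - 1 := by
      rw [← ha]
      refine orderOf_dvd_of_pow_eq_one ?_
      apply mul_left_cancel (a := a)
      rw [← pow_succ', mul_one, Nat.sub_add_cancel ?_, ← hab]
      have := Nat.pow_le_pow_right two_pos (show 2 ≤ n - 1 by omega)
      omega
    have h4 := Nat.pow_le_pow_right two_pos (show 2 ≤ n - 1 by omega)
    have h5 : 2 ^ n = 2 * 2 ^ (n - 1) := by rw [← pow_succ', Nat.sub_add_cancel (by omega)]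
    have := Nat.le_of_dvd (by omega) h2
    omega
  · exfalso
    rw [hSab c a, mul_inv_cancel_right] at hca
    subst hca
    rw [inf_idem, Subgroup.zpowers_eq_bot] at hdisj
    rw [hdisj, orderOf_one] at ha
    exact absurd ha (Nat.one_lt_two_pow (by omega)).ne
  · exfalso
    obtain ⟨-, hk, -, hz, -⟩ := Cfsg.Agent.S1248.result hF16
      (Classical.arbitrary (Sylow 2 (Cfsg.PSU 3 F16 4)))
    haveI := hk
    have hab : IsMulCommutative ↥((Classical.arbitrary (Sylow 2 (Cfsg.PSU 3 F16 4))) :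
        Subgroup (Cfsg.PSU 3 F16 4)) :=
      ⟨⟨fun a b => e.symm.injective (by rw [map_mul, map_mul]; exact hSab _ _)⟩⟩
    have h1 := (commutator_eq_bot_iff_center_eq_top _).2
      (Subgroup.eq_top_iff' _ |>.2 fun g => Subgroup.mem_center_iff.2 fun h => hab.is_comm.comm h g)
    rw [← hz] at h1
    have h4 := IsKleinFour.card_four (G := ↥(Subgroup.center
      ↥((Classical.arbitrary (Sylow 2 (Cfsg.PSU 3 F16 4))) : Subgroup (Cfsg.PSU 3 F16 4))))
    rw [h1, Subgroup.card_bot] at h4
    omega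

/-- The intersection of a normal subgroup with a Sylow subgroup is one of its Sylow subgroups. -/
theorem exists_sylow_subgroupOf (N : Subgroup G) [N.Normal] (T : Sylow 2 G) :
    ∃ W : Sylow 2 N, (W : Subgroup N) = (T : Subgroup G).comap N.subtype := by
  haveI : Fact (Nat.Prime 2) := ⟨Nat.prime_two⟩
  obtain ⟨W⟩ : Nonempty (Sylow 2 N) := inferInstance
  obtain ⟨P, hP⟩ := W.exists_comap_subtype_eq
  obtain ⟨g, hg⟩ := MulAction.exists_smul_eq G P T
  let φ : N ≃* N := (MulAut.conjNormal g : MulAut N)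
  refine ⟨W.mapSurjective (f := φ.toMonoidHom) φ.surjective, ?_⟩
  show (W : Subgroup N).map φ.toMonoidHom = _
  rw [← hP, ← hg, Sylow.coe_subgroup_smul]
  ext x
  constructor
  · rintro ⟨y, hy, rfl⟩
    exact ⟨(y : G), hy, (MulAut.conjNormal_apply g y).symm⟩
  · rintro ⟨y, hy, hyx⟩
    have hyN : y ∈ N := by
      have hyx' : g * y * g⁻¹ = x := hyx
      rw [show y = g⁻¹ * (g * y * g⁻¹) * g⁻¹⁻¹ by group, hyx']
      exact Subgroup.Normal.conj_mem inferInstance _ x.2 _
    exact ⟨⟨y, hyN⟩, hy, Subtype.ext ((MulAut.conjNormal_apply g ⟨y, hyN⟩).trans hyx)⟩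

/-- A nonsolvable simple normal subgroup: some element of it normalises a given abelian Sylow
2-subgroup and moves an element of that Sylow subgroup inside it. -/
theorem exists_moved {N : Subgroup G} [N.Normal] [IsSimpleGroup N] (hns : ¬ Group.IsSolvable N)
    (T : Sylow 2 G) (hcomm : ∀ x ∈ (T : Subgroup G), ∀ y ∈ (T : Subgroup G), x * y = y * x) :
    ∃ n w : G, n ∈ normalizer ((T : Subgroup G) : Set G) ∧ n ∈ N ∧ w ∈ (T : Subgroup G) ∧ w ∈ N ∧
      n * w * n⁻¹ ≠ w := by
  haveI : Fact (Nat.Prime 2) := ⟨Nat.prime_two⟩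
  obtain ⟨W, hW⟩ := exists_sylow_subgroupOf N T
  by_cases hex : ∃ g ∈ normalizer ((W : Subgroup N) : Set N), ∃ w ∈ (W : Subgroup N), g * w * g⁻¹ ≠ w
  · obtain ⟨g, hg, w, hw, hne⟩ := hex
    have hwT : (w : G) ∈ (T : Subgroup G) := by rw [hW] at hw; exact hw
    have hgw : ((g * w * g⁻¹ : N) : G) ∈ (T : Subgroup G) := by
      have := (mem_normalizer_iff.1 hg w).1 hw
      replace this : g * w * g⁻¹ ∈ (W : Subgroup N) := this
      rw [hW] at this
      exact this
    let K : Subgroup G := N ⊔ (T : Subgroup G)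
    have hTK : (T : Subgroup G) ≤ K := le_sup_right
    let TK : Sylow 2 K := T.subtype hTK
    haveI : IsMulCommutative ↥(TK : Subgroup K) :=
      ⟨⟨fun a b => Subtype.ext (Subtype.ext (hcomm _ (by exact a.2) _ (by exact b.2)))⟩⟩
    obtain ⟨m, hm, hme⟩ := TK.conj_eq_normalizer_conj_of_mem ⟨(w : G), le_sup_left (a := N) w.2⟩
      ⟨((g : G))⁻¹, K.inv_mem (le_sup_left (a := N) g.2)⟩ hwT (by
        show ((g : G))⁻¹⁻¹ * (w : G) * ((g : G))⁻¹ ∈ (T : Subgroup G)
        rw [inv_inv]; exact hgw)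
    have hme' : (g : G) * w * (g : G)⁻¹ = (m : G)⁻¹ * w * m := by
      have := congrArg Subtype.val hme
      simpa [inv_inv] using this
    have hmT : (m : G)⁻¹ ∈ normalizer ((T : Subgroup G) : Set G) := inv_mem (mem_normalizer_iff.2 fun u => by
      constructor
      · intro hu
        exact (mem_normalizer_iff.1 hm ⟨u, hTK hu⟩).1 hu
      · intro hu
        have hu' := (mem_normalizer_iff.1 (inv_mem hm) ⟨(m : G) * u * (m : G)⁻¹, hTK hu⟩).1 hu
        have hu'' : (m : G)⁻¹ * ((m : G) * u * (m : G)⁻¹) * (m : G)⁻¹⁻¹ ∈ (T : Subgroup G) := hu'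
        have e : (m : G)⁻¹ * ((m : G) * u * (m : G)⁻¹) * (m : G)⁻¹⁻¹ = u := by group
        rwa [e] at hu'')
    obtain ⟨n, hn, t, ht, hnt⟩ := mem_sup_of_normal_left.1 (K.inv_mem m.2)
    refine ⟨n, w, ?_, hn, hwT, w.2, ?_⟩
    · rw [show n = (m : G)⁻¹ * t⁻¹ by rw [← hnt, mul_inv_cancel_right]]
      exact mul_mem hmT (le_normalizer ((T : Subgroup G).inv_mem ht))
    · intro e
      refine hne (Subtype.ext ?_)
      show (g : G) * w * (g : G)⁻¹ = w
      calc (g : G) * w * (g : G)⁻¹ = (m : G)⁻¹ * w * ((m : G)⁻¹)⁻¹ := by rw [hme', inv_inv]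
        _ = n * (t * w) * t⁻¹ * n⁻¹ := by rw [← hnt]; group
        _ = n * w * n⁻¹ := by rw [hcomm t ht w hwT]; group
        _ = w := e
  · push Not at hex
    have hle : normalizer ((W : Subgroup N) : Set N) ≤ centralizer ((W : Subgroup N) : Set N) :=
      fun g hg => mem_centralizer_iff.2 fun w hw => by
        have := hex g hg w hw
        rw [mul_inv_eq_iff_eq_mul] at this
        exact this.symm
    have hc := MonoidHom.ker_transferSylow_isComplement' W hle
    exfalso
    rcases IsSimpleGroup.eq_bot_or_eq_top_of_normal _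
      (MonoidHom.normal_ker (MonoidHom.transferSylow W hle)) with h | h
    · rw [h, isComplement'_bot_left] at hc
      have hp : IsPGroup 2 N := IsPGroup.of_equiv W.2 ((MulEquiv.subgroupCongr hc).trans Subgroup.topEquiv)
      haveI := hp.isNilpotent
      exact hns inferInstance
    · rw [h, isComplement'_top_left] at hc
      refine hns (@CfsgLib.PF.oddSolvable.{u} N _ _ ?_)
      rw [← Nat.not_even_iff_odd, even_iff_two_dvd]
      intro hd
      have h1 := W.not_dvd_index
      rw [hc, index_bot] at h1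
      exact h1 hd

/-- Odd elements over a central subgroup that is a 2-group. -/
theorem oddCore_quotient_central (Z : Subgroup G) [Z.Normal] (hZ : Z ≤ center G) (hZp : IsPGroup 2 Z)
    (hO : Cfsg.oddCore G = ⊥) : Cfsg.oddCore (G ⧸ Z) = ⊥ := by
  haveI : Fact (Nat.Prime 2) := ⟨Nat.prime_two⟩
  set O := Cfsg.oddCore (G ⧸ Z) with hOdef
  haveI : O.Normal := Cfsg.pPrimeCore_normal 2 _
  set P := O.comap (QuotientGroup.mk' Z) with hP
  haveI : P.Normal := Subgroup.Normal.comap inferInstance _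
  have hZP : Z ≤ P := fun z hz => by
    rw [hP, mem_comap, QuotientGroup.mk'_apply, (QuotientGroup.eq_one_iff z).2 hz]; exact one_mem _
  have hOodd : Odd (Nat.card O) := Nat.coprime_two_right.1 CfsgLib.PCore.pPrimeCore_coprime
  let f : P →* O := ((QuotientGroup.mk' Z).domRestrict P).codRestrict O fun x => x.2
  have hf : Function.Surjective f := fun y => by
    obtain ⟨x, hx⟩ := QuotientGroup.mk'_surjective Z (y : G ⧸ Z)
    exact ⟨⟨x, by rw [hP, mem_comap, hx]; exact y.2⟩, Subtype.ext hx⟩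
  have hker : f.ker = Z.subgroupOf P := by
    ext x
    rw [MonoidHom.mem_ker, mem_subgroupOf, ← QuotientGroup.eq_one_iff (N := Z)]
    exact Subtype.ext_iff
  have hidx : (Z.subgroupOf P).index = Nat.card O := by
    rw [← hker, index_ker, MonoidHom.range_eq_top.2 hf, card_top]
  obtain ⟨m, hm⟩ := IsPGroup.iff_card.1 (hZp.of_equiv (subgroupOfEquivOfLe hZP).symm)
  haveI : (Z.subgroupOf P).Normal := hker ▸ f.normal_ker
  obtain ⟨K, hK⟩ := exists_right_complement'_of_coprime (N := Z.subgroupOf P)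
    (by rw [hidx, hm]; exact (Nat.coprime_two_left.2 hOodd).pow_left m)
  have hKodd : Odd (Nat.card K) := by
    have h1 := hK.card_mul
    have h2 := (Z.subgroupOf P).card_mul_index
    rw [hidx, ← h1] at h2
    rwa [← Nat.eq_of_mul_eq_mul_left Nat.card_pos h2]
  -- the complement consists of all elements of odd order
  have hmem : ∀ x : P, Odd (orderOf x) → x ∈ K := by
    intro x hx
    obtain ⟨⟨z, k⟩, rfl : (z : P) * k = x⟩ := hK.surjective x
    have hc : Commute (z : P) k := Subtype.ext (mem_center_iff.1 (hZ z.2) _).symm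
    obtain ⟨i, hi⟩ := hZp.of_equiv (subgroupOfEquivOfLe hZP).symm z
    have hi' : (z : P) ^ 2 ^ i = 1 := congrArg Subtype.val hi
    suffices h : (z : P) = 1 by simp [h]
    rw [← orderOf_eq_one_iff]
    refine Nat.eq_one_of_dvd_coprimes (Nat.Coprime.pow_left i
      (Nat.coprime_two_left.2 (hx.mul hKodd))) (orderOf_dvd_of_pow_eq_one hi') ?_
    refine orderOf_dvd_of_pow_eq_one ?_
    have h1 : ((z : P) * k) ^ (orderOf ((z : P) * k) * Nat.card K) = 1 := by
      rw [pow_mul, pow_orderOf_eq_one, one_pow]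
    have h2 : (k : P) ^ (orderOf ((z : P) * k) * Nat.card K) = 1 :=
      orderOf_dvd_iff_pow_eq_one.1 ((K.orderOf_dvd_natCard k.2).trans (dvd_mul_left _ _))
    rwa [hc.mul_pow, h2, mul_one] at h1
  have hoddK : ∀ x ∈ K, Odd (orderOf x) := fun x hx =>
    hKodd.of_dvd_nat (K.orderOf_dvd_natCard hx)
  have hKn : (K.map P.subtype).Normal := ⟨fun x hx g => by
    obtain ⟨y, hy, rfl⟩ := hx
    refine ⟨⟨g * y * g⁻¹, Subgroup.Normal.conj_mem inferInstance _ y.2 g⟩, hmem _ ?_, rfl⟩
    have := hoddK y hy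
    rw [← orderOf_coe] at this ⊢
    rwa [show orderOf (g * (y : G) * g⁻¹) = orderOf (y : G) from orderOf_injective
      (MulAut.conj g).toMonoidHom (MulAut.conj g).injective _]⟩
  have hK1 : K.map P.subtype = ⊥ := by
    rw [← le_bot_iff, ← hO]
    refine le_sSup ⟨hKn, ?_⟩
    rw [card_map_of_injective P.subtype_injective]
    exact Nat.coprime_two_right.2 hKodd
  rw [map_eq_bot_iff_of_injective _ P.subtype_injective] at hK1
  subst hK1
  rw [isComplement'_bot_right] at hK
  rw [eq_bot_iff]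
  intro y hy
  obtain ⟨x, hx⟩ := hf ⟨y, hy⟩
  rw [mem_bot, show y = (f x : G ⧸ Z) by rw [hx]]
  have : x ∈ f.ker := by rw [hker, hK]; exact mem_top x
  rw [MonoidHom.mem_ker.1 this]; rfl

/-- The centraliser of the image of `y` modulo a central subgroup is solvable if that of `y` is. -/
theorem solvable_centralizer_quotient (Z : Subgroup G) [Z.Normal] (hZ : Z ≤ center G) {y : G}
    (hy : Group.IsSolvable ↥(centralizer ({y} : Set G))) :
    Group.IsSolvable ↥(centralizer ({QuotientGroup.mk' Z y} : Set (G ⧸ Z))) := by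
  set P := (centralizer ({QuotientGroup.mk' Z y} : Set (G ⧸ Z))).comap (QuotientGroup.mk' Z) with hP
  have hmem : ∀ g : P, (g : G) * y * (g : G)⁻¹ * y⁻¹ ∈ Z := fun g => by
    have h := mem_centralizer_singleton_iff.1 g.2
    rw [← QuotientGroup.eq_one_iff, ← QuotientGroup.mk'_apply, map_mul, map_mul, map_mul, map_inv,
      map_inv, h]
    group
  let f : P →* Z := MonoidHom.mk' (fun g => ⟨_, hmem g⟩) fun a b => Subtype.ext (by
    show (a : G) * b * y * ((a : G) * b)⁻¹ * y⁻¹ =
      (a : G) * y * (a : G)⁻¹ * y⁻¹ * ((b : G) * y * (b : G)⁻¹ * y⁻¹)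
    have hc := mem_center_iff.1 (hZ (hmem b))
    calc (a : G) * b * y * ((a : G) * b)⁻¹ * y⁻¹
        = (a : G) * ((b : G) * y * (b : G)⁻¹ * y⁻¹) * (y * (a : G)⁻¹ * y⁻¹) := by group
      _ = _ := by rw [mul_assoc, ← hc (y * (a : G)⁻¹ * y⁻¹)]; group)
  haveI : IsMulCommutative Z := ⟨⟨fun a b => Subtype.ext (mem_center_iff.1 (hZ b.2) a)⟩⟩
  haveI : Group.IsSolvable Z := Group.isSolvable_of_comm fun a b => mul_comm' a b
  haveI := hy
  haveI : Group.IsSolvable f.ker := Group.isSolvable_of_isSolvable_injective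
    (f := (P.subtype.comp f.ker.subtype).codRestrict (centralizer ({y} : Set G)) fun g =>
      mem_centralizer_singleton_iff.2 (by
        have h := congrArg Subtype.val (MonoidHom.mem_ker.1 g.2)
        change ((g : P) : G) * y * ((g : P) : G)⁻¹ * y⁻¹ = 1 at h
        rw [mul_inv_eq_one, mul_inv_eq_iff_eq_mul] at h
        exact h))
    fun a b e => Subtype.ext (Subtype.ext (congrArg Subtype.val e :))
  haveI : Group.IsSolvable P := Group.isSolvable_of_ker_le_range f.ker.subtype f (by rw [range_subtype])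
  exact Group.isSolvable_of_surjective (f := ((QuotientGroup.mk' Z).domRestrict P).codRestrict
    (centralizer ({QuotientGroup.mk' Z y} : Set (G ⧸ Z))) fun g => g.2) fun z => by
      obtain ⟨g, hg⟩ := QuotientGroup.mk'_surjective Z (z : G ⧸ Z)
      exact ⟨⟨g, by rw [hP, mem_comap, hg]; exact z.2⟩, Subtype.ext hg⟩

/-- Every involution is a square and the exponent divides four. -/
def AllSq (T : Subgroup G) : Prop :=
  (∀ x ∈ T, x * x * (x * x) = 1) ∧ ∀ x ∈ T, x * x = 1 → ∃ v ∈ T, v * v = x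

/-- A group with abelian Sylow 2-subgroups in which every involution is a square is solvable. -/
theorem solvable_of_allSq : ∀ (K : Type u) [Group K] [Finite K] (T : Sylow 2 K),
    (∀ x ∈ (T : Subgroup K), ∀ y ∈ (T : Subgroup K), x * y = y * x) → AllSq (T : Subgroup K) →
    Group.IsSolvable K := by
  haveI : Fact (Nat.Prime 2) := ⟨Nat.prime_two⟩
  suffices h : ∀ (n : ℕ) (K : Type u) [Group K] [Finite K] (T : Sylow 2 K), Nat.card K = n →
      (∀ x ∈ (T : Subgroup K), ∀ y ∈ (T : Subgroup K), x * y = y * x) → AllSq (T : Subgroup K) →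
      Group.IsSolvable K from fun K _ _ T => h _ K T rfl
  intro n
  induction n using Nat.strong_induction_on with
  | _ n ih =>
    intro K _ _ T hn hcomm hsq
    subst hn
    by_cases hO : Cfsg.oddCore K = ⊥
    swap
    · set O := Cfsg.oddCore K with hOdef
      haveI : O.Normal := Cfsg.pPrimeCore_normal 2 _
      have hOodd : Odd (Nat.card O) := Nat.coprime_two_right.1 CfsgLib.PCore.pPrimeCore_coprime
      haveI : Group.IsSolvable O := @CfsgLib.PF.oddSolvable.{u} O _ _ hOodd
      have hlt : Nat.card (K ⧸ O) < Nat.card K := by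
        rw [Subgroup.card_eq_card_quotient_mul_card_subgroup O]
        exact lt_mul_of_one_lt_right Nat.card_pos ((one_lt_card_iff_ne_bot O).2 hO)
      haveI : Group.IsSolvable (K ⧸ O) := by
        refine ih _ hlt (K ⧸ O) (T.mapSurjective (QuotientGroup.mk'_surjective O)) rfl ?_ ⟨?_, ?_⟩
        · rintro _ ⟨x, hx, rfl⟩ _ ⟨y, hy, rfl⟩
          rw [← map_mul, ← map_mul, hcomm x hx y hy]
        · rintro _ ⟨x, hx, rfl⟩
          rw [← map_mul, ← map_mul, hsq.1 x hx, map_one]
        · rintro _ ⟨x, hx, rfl⟩ h1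
          have h2 : x * x ∈ (T : Subgroup K) ⊓ O := by
            refine ⟨mul_mem hx hx, ?_⟩
            rw [← map_mul] at h1
            exact (QuotientGroup.eq_one_iff _).1 h1
          rw [inf_eq_bot_of_coprime ?_, mem_bot] at h2
          · obtain ⟨v, hv, hvx⟩ := hsq.2 x hx h2
            exact ⟨_, ⟨v, hv, rfl⟩, by rw [← map_mul, hvx]⟩
          · obtain ⟨k, hk⟩ := IsPGroup.iff_card.1 T.2
            rw [hk]; exact (Nat.coprime_two_left.2 hOodd).pow_left k
      exact Group.isSolvable_of_ker_le_range O.subtype (QuotientGroup.mk' O)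
        (by rw [QuotientGroup.ker_mk', range_subtype])
    have hsolvC : ∀ y ∈ (T : Subgroup K), y ∉ center K →
        Group.IsSolvable ↥(centralizer ({y} : Set K)) := by
      intro y hy hyc
      have hTC : (T : Subgroup K) ≤ centralizer ({y} : Set K) := fun t ht =>
        mem_centralizer_singleton_iff.2 (hcomm t ht y hy)
      refine ih _ ?_ _ (T.subtype hTC) rfl ?_ ⟨?_, ?_⟩
      · refine lt_of_le_of_ne (card_le_card_group _) fun e => hyc ?_
        refine mem_center_iff.2 fun g => mem_centralizer_singleton_iff.1 ?_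
        rw [eq_top_of_card_eq _ e]; exact mem_top g
      · intro a ha b hb
        exact Subtype.ext (hcomm _ ha _ hb)
      · intro a ha
        exact Subtype.ext (hsq.1 _ ha)
      · intro a ha h1
        obtain ⟨v, hv, hva⟩ := hsq.2 _ ha (congrArg Subtype.val h1)
        exact ⟨⟨v, hTC hv⟩, hv, Subtype.ext hva⟩
    set Y := (T : Subgroup K) ⊓ center K with hYdef
    haveI : Y.Normal := ⟨fun y hy g => by rwa [mem_center_iff.1 hy.2 g, mul_inv_cancel_right]⟩
    have hYc : Y ≤ center K := inf_le_right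
    have hYp : IsPGroup 2 Y := T.2.to_le inf_le_left
    haveI : IsMulCommutative Y := ⟨⟨fun a b => Subtype.ext (mem_center_iff.1 (hYc b.2) a)⟩⟩
    haveI : Group.IsSolvable Y := Group.isSolvable_of_comm fun a b => mul_comm' a b
    set π := QuotientGroup.mk' Y with hπ
    suffices hQ : Group.IsSolvable (K ⧸ Y) by
      exact Group.isSolvable_of_ker_le_range Y.subtype π (by rw [QuotientGroup.ker_mk', range_subtype])
    by_contra hns
    set Tb : Sylow 2 (K ⧸ Y) := T.mapSurjective (QuotientGroup.mk'_surjective Y)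
    have hTb : ∀ x ∈ (Tb : Subgroup (K ⧸ Y)), ∀ y ∈ (Tb : Subgroup (K ⧸ Y)), x * y = y * x := by
      rintro _ ⟨x, hx, rfl⟩ _ ⟨y, hy, rfl⟩
      rw [← map_mul, ← map_mul, hcomm x hx y hy]
    have hC : ∀ t : K ⧸ Y, orderOf t = 2 → Group.IsSolvable ↥(centralizer ({t} : Set (K ⧸ Y))) := by
      intro t ht
      have hp : IsPGroup 2 (zpowers t) := IsPGroup.of_card (n := 1) (by rw [Nat.card_zpowers, ht, pow_one])
      obtain ⟨Q, hQ⟩ := hp.exists_le_sylow
      obtain ⟨g, hg⟩ := MulAction.exists_smul_eq (K ⧸ Y) Q Tb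
      have hgt : g * t * g⁻¹ ∈ (Tb : Subgroup (K ⧸ Y)) := by
        rw [← hg, Sylow.coe_subgroup_smul]; exact ⟨t, hQ (mem_zpowers t), rfl⟩
      obtain ⟨y, hy, hyt⟩ := hgt
      have hyc : y ∉ center K := fun hc => by
        have h1 : π y = 1 := (QuotientGroup.eq_one_iff y).2 ⟨hy, hc⟩
        have h2 : g * t * g⁻¹ = 1 := hyt.symm.trans h1
        rw [show t = g⁻¹ * (g * t * g⁻¹) * g by group, h2, mul_one, inv_mul_cancel, orderOf_one] at ht
        exact absurd ht (by norm_num)
      have hsol := solvable_centralizer_quotient Y hYc (hsolvC y hy hyc)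
      rw [show QuotientGroup.mk' Y y = g * t * g⁻¹ from hyt] at hsol
      haveI := hsol
      exact Group.isSolvable_of_isSolvable_injective
        (f := ((MulAut.conj g).toMonoidHom.comp (centralizer ({t} : Set (K ⧸ Y))).subtype).codRestrict
          (centralizer ({g * t * g⁻¹} : Set (K ⧸ Y))) fun c => mem_centralizer_singleton_iff.2
            (((show Commute (c : K ⧸ Y) t from mem_centralizer_singleton_iff.1 c.2).map
              (MulAut.conj g).toMonoidHom).eq))
        fun a b e => Subtype.ext ((MulAut.conj g).injective (congrArg Subtype.val e :))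
    obtain ⟨N, hNn, hNs, hNns, -⟩ := SylTwoAbel.exists_simple_normal Tb hTb hC hns
      (oddCore_quotient_central Y hYc hYp hO)
    haveI := hNn
    haveI := hNs
    obtain ⟨W, hW⟩ := exists_sylow_subgroupOf N Tb
    have hWc : ∀ x ∈ (W : Subgroup N), ∀ y ∈ (W : Subgroup N), x * y = y * x := fun x hx y hy =>
      Subtype.ext (hTb _ (by rw [hW] at hx; exact hx) _ (by rw [hW] at hy; exact hy))
    have hCN : ∀ t : N, orderOf t = 2 → Group.IsSolvable ↥(centralizer ({t} : Set N)) := by
      intro t ht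
      haveI := hC t (by rw [Subgroup.orderOf_coe, ht])
      exact Group.isSolvable_of_isSolvable_injective
        (f := (N.subtype.comp (centralizer ({t} : Set N)).subtype).codRestrict
          (centralizer ({(t : K ⧸ Y)} : Set (K ⧸ Y))) fun c => mem_centralizer_singleton_iff.2
            (congrArg Subtype.val (mem_centralizer_singleton_iff.1 c.2)))
        fun a b e => Subtype.ext (Subtype.ext (congrArg Subtype.val e :))
    have hexp : ∀ x ∈ (Tb : Subgroup (K ⧸ Y)), x ∈ N → x * x = 1 := fun x hx hxN =>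
      congrArg Subtype.val (exp_two_of_simple hNns W hWc hCN (x := ⟨x, hxN⟩) (by rw [hW]; exact hx))
    obtain ⟨nb, wb, hnb, hnbN, hwb, hwbN, hne⟩ := exists_moved hNns Tb hTb
    obtain ⟨n₀, rfl⟩ := QuotientGroup.mk'_surjective Y nb
    obtain ⟨w, hw, rfl⟩ := hwb
    have hn₀ : ∀ u ∈ (T : Subgroup K), n₀ * u * n₀⁻¹ ∈ (T : Subgroup K) := fun u hu => by
      have h1 := (mem_normalizer_iff.1 hnb (π u)).1 ⟨u, hu, rfl⟩
      obtain ⟨v, hv, hvu⟩ := h1
      have h2 : π v = π (n₀ * u * n₀⁻¹) := by rw [hvu, map_mul, map_mul, map_inv]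
      rw [hπ, QuotientGroup.mk'_apply, QuotientGroup.mk'_apply, QuotientGroup.eq] at h2
      have h3 := mul_mem hv h2.1
      rwa [mul_inv_cancel_left] at h3
    -- the commutator lies in the preimage of `N`, so its square is central
    have hesq : ∀ u ∈ (T : Subgroup K), n₀ * u * n₀⁻¹ * u⁻¹ * (n₀ * u * n₀⁻¹ * u⁻¹) ∈ Y := by
      intro u hu
      rw [← QuotientGroup.eq_one_iff, ← QuotientGroup.mk'_apply, map_mul]
      refine hexp _ ⟨_, mul_mem (hn₀ u hu) (inv_mem hu), rfl⟩ ?_
      rw [map_mul, map_mul, map_mul, map_inv, map_inv, mul_assoc, mul_assoc]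
      exact mul_mem hnbN (by
        rw [← mul_assoc]
        exact hNn.conj_mem _ (inv_mem hnbN) _)
    have hNT : n₀ ∈ normalizer ((T : Subgroup K) : Set K) :=
      mem_normalizer_iff.2 fun u => ⟨fun hu => hn₀ u hu, fun hu => by
        have hfin : Function.Surjective (fun v : ↥(T : Subgroup K) =>
            (⟨n₀ * v * n₀⁻¹, hn₀ v v.2⟩ : ↥(T : Subgroup K))) :=
          Finite.surjective_of_injective fun a b e => Subtype.ext
            (mul_left_cancel (mul_right_cancel (congrArg Subtype.val e)))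
        obtain ⟨v, hv⟩ := hfin ⟨n₀ * u * n₀⁻¹, hu⟩
        rw [← mul_left_cancel (mul_right_cancel (congrArg Subtype.val hv))]
        exact v.2⟩
    have hY : ∀ y ∈ Y, n₀ * y * n₀⁻¹ = y := fun y hy => by
      rw [mem_center_iff.1 hy.2 n₀, mul_inv_cancel_right]
    -- an iterate of odd exponent centralises `T`
    obtain ⟨k, hk, hkc⟩ : ∃ k, Odd k ∧ n₀ ^ k ∈ centralizer ((T : Subgroup K) : Set K) := by
      set NT := normalizer ((T : Subgroup K) : Set K)
      set C := (centralizer ((T : Subgroup K) : Set K)).subgroupOf NT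
      have hCn : C.Normal := ⟨fun c hc g => by
        rw [mem_subgroupOf] at hc ⊢
        refine mem_centralizer_iff.2 fun u hu => ?_
        have hgu : (g : K)⁻¹ * u * g ∈ (T : Subgroup K) := by
          have := (mem_normalizer_iff.1 (inv_mem g.2) u).1 hu
          rwa [inv_inv] at this
        have hh := mem_centralizer_iff.1 hc _ hgu
        show u * ((g : K) * c * (g : K)⁻¹) = (g : K) * c * (g : K)⁻¹ * u
        calc u * ((g : K) * c * (g : K)⁻¹) = (g : K) * ((g : K)⁻¹ * u * g * c) * (g : K)⁻¹ := by group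
          _ = (g : K) * (c * ((g : K)⁻¹ * u * g)) * (g : K)⁻¹ := by rw [hh]
          _ = _ := by group⟩
      refine ⟨C.index, ?_, ?_⟩
      · rw [← Nat.not_even_iff_odd, even_iff_two_dvd]
        intro hd
        refine (T.subtype le_normalizer).not_dvd_index (hd.trans (index_dvd_of_le ?_))
        intro u hu
        exact mem_centralizer_iff.2 fun v hv => hcomm v hv _ hu
      · have := pow_index_mem C (⟨n₀, hNT⟩ : NT)
        exact this
    -- `n₀` fixes the involutions
    have hom2 : ∀ u ∈ (T : Subgroup K), u * u = 1 → n₀ * u * n₀⁻¹ = u := by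
      -- any element whose commutator is a fixed involution is fixed
      have step : ∀ u ∈ (T : Subgroup K), ∀ e ∈ (T : Subgroup K), n₀ * u * n₀⁻¹ = u * e → e * e = 1 →
          n₀ * e * n₀⁻¹ = e → e = 1 := by
        intro u hu e he hue he2 hfe
        have hit : ∀ j : ℕ, n₀ ^ j * u * (n₀ ^ j)⁻¹ = u * e ^ j := by
          intro j
          induction j with
          | zero => simp
          | succ j ihj =>
            calc n₀ ^ (j + 1) * u * (n₀ ^ (j + 1))⁻¹ = n₀ * (n₀ ^ j * u * (n₀ ^ j)⁻¹) * n₀⁻¹ := by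
                  rw [pow_succ']; group
              _ = n₀ * u * n₀⁻¹ * (n₀ * e * n₀⁻¹) ^ j := by rw [ihj, conj_pow]; group
              _ = u * e ^ (j + 1) := by rw [hue, hfe, pow_succ', mul_assoc]
        have h1 := hit k
        rw [← mem_centralizer_iff.1 hkc u hu, mul_inv_cancel_right, left_eq_mul] at h1
        obtain ⟨m, rfl⟩ := hk
        rwa [pow_succ, pow_mul, pow_two, he2, one_pow, one_mul] at h1
      intro u hu hu2
      obtain ⟨v, hv, rfl⟩ := hsq.2 u hu hu2
      set e := n₀ * v * n₀⁻¹ * v⁻¹ with he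
      have heT : e ∈ (T : Subgroup K) := mul_mem (hn₀ v hv) (inv_mem hv)
      have h := step (v * v) hu (e * e) (mul_mem heT heT) (by
        calc n₀ * (v * v) * n₀⁻¹ = e * v * (e * v) := by rw [he]; group
          _ = e * e * (v * v) := (show Commute v e from hcomm v hv e heT).mul_mul_mul_comm _ _
          _ = v * v * (e * e) := hcomm _ (mul_mem heT heT) _ hu) (hsq.1 e heT) (hY _ (hesq v hv))
      calc n₀ * (v * v) * n₀⁻¹ = e * v * (e * v) := by rw [he]; group
        _ = e * e * (v * v) := (show Commute v e from hcomm v hv e heT).mul_mul_mul_comm _ _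
        _ = v * v := by rw [h, one_mul]
    have step' : n₀ * w * n₀⁻¹ = w := by
      set e := n₀ * w * n₀⁻¹ * w⁻¹ with he
      have heT : e ∈ (T : Subgroup K) := mul_mem (hn₀ w hw) (inv_mem hw)
      have hew : n₀ * w * n₀⁻¹ = e * w := by rw [he]; group
      have he2 : e * e = 1 := by
        have hsqw : n₀ * (w * w) * n₀⁻¹ = w * w := hom2 _ (mul_mem hw hw) (hsq.1 w hw)
        have h2 : n₀ * (w * w) * n₀⁻¹ = e * e * (w * w) := by
          calc n₀ * (w * w) * n₀⁻¹ = e * w * (e * w) := by rw [he]; group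
            _ = e * e * (w * w) := (show Commute w e from hcomm w hw e heT).mul_mul_mul_comm _ _
        rw [hsqw] at h2
        exact right_eq_mul.1 h2
      have hfe := hom2 e heT he2
      clear_value e
      have hit : ∀ j : ℕ, n₀ ^ j * w * (n₀ ^ j)⁻¹ = e ^ j * w := by
        intro j
        induction j with
        | zero => simp
        | succ j ihj =>
          calc n₀ ^ (j + 1) * w * (n₀ ^ (j + 1))⁻¹ = n₀ * (n₀ ^ j * w * (n₀ ^ j)⁻¹) * n₀⁻¹ := by
                rw [pow_succ']; group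
            _ = (n₀ * e * n₀⁻¹) ^ j * (n₀ * w * n₀⁻¹) := by rw [ihj, conj_pow]; group
            _ = e ^ (j + 1) * w := by rw [hfe, hew, pow_succ, mul_assoc]
      have h1 := hit k
      rw [← mem_centralizer_iff.1 hkc w hw, mul_inv_cancel_right, right_eq_mul] at h1
      obtain ⟨m, rfl⟩ := hk
      rw [pow_succ, pow_mul, pow_two, he2, one_pow, one_mul] at h1
      rw [hew, h1, one_mul]
    exact hne (by rw [← map_inv, ← map_mul, ← map_mul, step'])

end CfsgLib.UThreeSylow
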