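import Cfsg.Agent.Lib.InvChar.HermNoSymThree
import Cfsg.Agent.Lib.InvChar.HermAut

/-!
# The structure of a Sylow 2-subgroup of `PSU₃(q)`, `q` even, as an abstract group

Centralisers of noncentral elements are commutative, squaring maps them onto the centre, and an
automorphism of odd order trivial on the centre and fixing a noncentral coset is trivial.
-/

set_option autoImplicit false
set_option linter.unusedSectionVars false

namespace CfsgLib.UThreeSylow

open CfsgLib.InvCharSixtyFour CfsgLib.InvCharThree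

/-- The structural properties used. -/
structure UT (T : Type*) [Group T] (q : ℕ) : Prop extends HermLike T q where
  cent_comm : ∀ x y w : T, x ∉ Subgroup.center T → Commute x y → Commute x w → Commute y w

theorem ut_of_equiv {T U : Type*} [Group T] [Group U] {q : ℕ} (e : U ≃* T) (h : UT U q) : UT T q := by
  refine ⟨hermLike_of_equiv e h.toHermLike, fun x y w hx hy hw => ?_⟩
  have hc : e.symm x ∉ Subgroup.center U := fun hh => hx (Subgroup.mem_center_iff.2 fun g => by
    apply e.symm.injective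
    rw [map_mul, map_mul]
    exact Subgroup.mem_center_iff.1 hh _)
  have := (h.cent_comm _ _ _ hc (hy.map e.symm.toMonoidHom) (hw.map e.symm.toMonoidHom)).map e.toMonoidHom
  simpa using this

theorem ut_herm {F : Type*} [Field F] [Fintype F] {q : ℕ} (hF : Fintype.card F = q ^ 2) (he : Even q) :
    letI := hermGroup hF he; UT (Herm F q) q := by
  let _ := hermGroup hF he
  refine ⟨hermLike_herm hF he, fun x y w hx hy hw => ?_⟩
  have hq : q ≠ 0 := by have := CfsgLib.ClassicalGroups.herm_two_le hF; omega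
  have ha : x.a ≠ 0 := by
    intro h0
    refine hx (Subgroup.mem_center_iff.2 fun g => Herm.ext ?_ ?_)
    · rw [herm_mul_a hF he, herm_mul_a hF he, add_comm]
    · rw [herm_mul_b hF he, herm_mul_b hF he, h0, mul_zero, zero_pow hq, zero_mul, add_comm g.b]
  have key : ∀ {u v : Herm F q}, Commute u v ↔ u.a ^ q * v.a = v.a ^ q * u.a := by
    intro u v
    constructor
    · intro h
      have hb := congrArg Herm.b h.eq
      rw [herm_mul_b hF he, herm_mul_b hF he, add_comm u.b] at hb
      exact add_left_cancel hb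
    · intro h
      refine Herm.ext ?_ ?_
      · rw [herm_mul_a hF he, herm_mul_a hF he, add_comm]
      · rw [herm_mul_b hF he, herm_mul_b hF he, h, add_comm u.b]
  rw [key] at hy hw ⊢
  refine mul_right_cancel₀ (mul_ne_zero ha (pow_ne_zero q ha)) ?_
  linear_combination (x.a ^ q * w.a) * (-hy) + (y.a * x.a ^ q) * hw

variable {T : Type*} [Group T] [Finite T] {q : ℕ} (h : UT T q)

include h

theorem q_pos : 0 < q := by
  rcases Nat.eq_zero_or_pos q with h0 | h0
  · have := Nat.card_pos (α := T)
    rw [h.card, h0] at this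
    simp at this
  · exact h0

theorem exists_noncentral (hq : 2 ≤ q) : ∃ x : T, x ∉ Subgroup.center T := by
  by_contra hc
  push Not at hc
  have h1 := h.card_center
  rw [(Subgroup.eq_top_iff' _).2 hc, Subgroup.card_top, h.card] at h1
  have h3 : q ^ 1 < q ^ 3 := Nat.pow_lt_pow_right hq (by norm_num)
  rw [pow_one] at h3
  omega

theorem inv_eq_of_center {z : T} (hz : z ∈ Subgroup.center T) : z⁻¹ = z :=
  inv_eq_of_mul_eq_one_right (h.center_sq z hz)

theorem mul_sq (x y : T) : x * y * (x * y) = x * x * (y * y) * cm y x := by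
  have hc := Subgroup.mem_center_iff.1 (h.cm_mem y x)
  calc x * y * (x * y) = x * ((cm y x) * x * y) * y := by unfold cm; group
    _ = x * (x * y * cm y x) * y := by rw [hc (x * y), mul_assoc (cm y x)]
    _ = x * x * (y * (cm y x * y)) := by group
    _ = x * x * (y * (y * cm y x)) := by rw [hc y]
    _ = x * x * (y * y) * cm y x := by group

theorem sq_of_comm {x y : T} (hc : Commute x y) : x * y * (x * y) = x * x * (y * y) := by
  rw [mul_sq h, show cm y x = 1 by unfold cm; rw [← hc.eq]; group, mul_one]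

theorem cm_mul_left (x u v : T) : cm x (u * v) = cm x u * cm x v := by
  have hc := Subgroup.mem_center_iff.1 (h.cm_mem x v)
  calc cm x (u * v) = cm x u * (u * cm x v * u⁻¹) := by unfold cm; group
    _ = cm x u * cm x v := by rw [hc u, mul_inv_cancel_right]

/-- The centraliser of a noncentral element has order `q²`. -/
theorem card_commute {x₀ : T} (hx₀ : x₀ ∉ Subgroup.center T) :
    Nat.card {u : T // Commute x₀ u} = q * q := by
  let f : T →* ↥(Subgroup.center T) :=
    MonoidHom.mk' (fun w => ⟨cm x₀ w, h.cm_mem x₀ w⟩) fun u v => Subtype.ext (cm_mul_left h x₀ u v)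
  have hfs : Function.Surjective f := fun w => by
    obtain ⟨v, hv⟩ := h.cm_onto x₀ hx₀ w w.2
    exact ⟨v, Subtype.ext hv⟩
  have hker : ∀ u : T, u ∈ f.ker ↔ Commute x₀ u := fun u => by
    rw [MonoidHom.mem_ker]
    constructor
    · intro hu
      have h1 : cm x₀ u = 1 := congrArg Subtype.val hu
      unfold cm at h1
      rw [mul_inv_eq_one, mul_inv_eq_iff_eq_mul] at h1
      exact h1
    · intro hu
      refine Subtype.ext ?_
      show cm x₀ u = 1
      unfold cm
      rw [hu.eq]
      group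
  rw [← Nat.card_congr (Equiv.subtypeEquivRight hker)]
  have h1 := f.ker.card_mul_index
  rw [Subgroup.index_ker, MonoidHom.range_eq_top.2 hfs, Subgroup.card_top, h.card_center, h.card] at h1
  exact Nat.eq_of_mul_eq_mul_right (q_pos h) (h1.trans (by ring))

/-- Squaring maps the centraliser of a noncentral element onto the centre. -/
theorem exists_sq_commute {x₀ : T} (hx₀ : x₀ ∉ Subgroup.center T) {z : T} (hz : z ∈ Subgroup.center T) :
    ∃ x : T, Commute x₀ x ∧ x * x = z := by
  let f : T →* ↥(Subgroup.center T) :=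
    MonoidHom.mk' (fun w => ⟨cm x₀ w, h.cm_mem x₀ w⟩) fun u v => Subtype.ext (cm_mul_left h x₀ u v)
  have hfs : Function.Surjective f := fun w => by
    obtain ⟨v, hv⟩ := h.cm_onto x₀ hx₀ w w.2
    exact ⟨v, Subtype.ext hv⟩
  have hker : ∀ {u : T}, u ∈ f.ker → Commute x₀ u := fun {u} hu => by
    have h1 : cm x₀ u = 1 := congrArg Subtype.val (MonoidHom.mem_ker.1 hu)
    unfold cm at h1
    rw [mul_inv_eq_one, mul_inv_eq_iff_eq_mul] at h1
    exact h1
  have hcardker : Nat.card ↥f.ker = q * q := by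
    have h1 := f.ker.card_mul_index
    rw [Subgroup.index_ker, MonoidHom.range_eq_top.2 hfs, Subgroup.card_top, h.card_center, h.card] at h1
    exact Nat.eq_of_mul_eq_mul_right (q_pos h) (h1.trans (by ring))
  have hcomm : ∀ u v : ↥f.ker, Commute (u : T) v := fun u v =>
    h.cent_comm x₀ u v hx₀ (hker u.2) (hker v.2)
  let g : ↥f.ker →* ↥(Subgroup.center T) :=
    MonoidHom.mk' (fun w => ⟨(w : T) * w, h.sq_mem w⟩) fun u v => Subtype.ext (sq_of_comm h (hcomm u v))
  have hgk : Nat.card ↥g.ker = q := by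
    refine Eq.trans ?_ h.card_center
    refine Nat.card_congr
      { toFun := fun w => ⟨((w : ↥f.ker) : T), h.sq_one _ (congrArg Subtype.val (MonoidHom.mem_ker.1 w.2))⟩
        invFun := fun c => ⟨⟨c, MonoidHom.mem_ker.2 (Subtype.ext ?_)⟩,
          MonoidHom.mem_ker.2 (Subtype.ext (h.center_sq c c.2))⟩
        left_inv := fun w => rfl
        right_inv := fun c => rfl }
    show cm x₀ (c : T) = 1
    unfold cm
    rw [Subgroup.mem_center_iff.1 c.2 x₀]
    group
  have hgr : g.range = ⊤ := by
    refine Subgroup.eq_top_of_card_eq _ ?_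
    have h1 := g.ker.card_mul_index
    rw [Subgroup.index_ker, hgk, hcardker] at h1
    rw [h.card_center]
    exact Nat.eq_of_mul_eq_mul_left (q_pos h) h1
  obtain ⟨w, hw⟩ := MonoidHom.range_eq_top.1 hgr ⟨z, hz⟩
  exact ⟨w, hker w.2, congrArg Subtype.val hw⟩

/-- Every central involution is the square of a noncentral element. -/
theorem exists_sq (hq : 2 ≤ q) {z : T} (hz : z ∈ Subgroup.center T) (hz1 : z ≠ 1) :
    ∃ x : T, x ∉ Subgroup.center T ∧ x * x = z := by
  obtain ⟨x₀, hx₀⟩ := exists_noncentral h hq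
  obtain ⟨w, -, hw⟩ := exists_sq_commute h hx₀ hz
  exact ⟨w, fun hc => hz1 (hw ▸ h.center_sq _ hc), hw⟩

/-- The squares of noncentral elements are not all equal. -/
theorem exists_sq_ne (hq : 4 ≤ q) (e₀ : T) :
    ∃ x : T, x ∉ Subgroup.center T ∧ x * x ≠ e₀ := by
  classical
  obtain ⟨z, hz, hz1, hz0⟩ : ∃ z ∈ Subgroup.center T, z ≠ 1 ∧ z ≠ e₀ := by
    by_contra hc
    push Not at hc
    have hsub : (Subgroup.center T : Set T) ⊆ {1, e₀} := fun z hz => by
      by_cases h1 : z = 1
      · exact Or.inl h1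
      · exact Or.inr (hc z hz h1)
    have h1 := Set.ncard_le_ncard hsub (Set.toFinite _)
    have h2 : ({1, e₀} : Set T).ncard ≤ 2 := (Set.ncard_insert_le _ _).trans (by simp)
    have h3 : (Subgroup.center T : Set T).ncard = q := h.card_center
    omega
  obtain ⟨x, hx, hxz⟩ := exists_sq h (by omega) hz hz1
  exact ⟨x, hx, hxz ▸ hz0⟩

theorem card_sq_one : Nat.card {x : T // x * x = 1} = q := by
  refine Eq.trans ?_ h.card_center
  exact Nat.card_congr
    { toFun := fun x => ⟨x, h.sq_one x x.2⟩
      invFun := fun x => ⟨x, h.center_sq x x.2⟩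
      left_inv := fun x => rfl
      right_inv := fun x => rfl }

/-- An automorphism of odd order that is trivial on the centre and fixes a noncentral coset of it
is trivial. -/
theorem fix_all (φ : MulAut T) {k : ℕ} (hk : Odd k) (hφ : φ ^ k = 1)
    (hZ : ∀ z ∈ Subgroup.center T, φ z = z) {v : T} (hv : v ∉ Subgroup.center T)
    (hvZ : v⁻¹ * φ v ∈ Subgroup.center T) : φ = 1 := by
  have hcmφ : ∀ a b : T, φ (cm a b) = cm (φ a) (φ b) := fun a b => by simp [cm]
  have hd : ∀ w, Commute v (w⁻¹ * φ w) := by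
    intro w
    have e1 : cm (φ v) (φ w) = cm v (φ w) := by
      rw [show φ v = v * (v⁻¹ * φ v) by group]
      have hc := Subgroup.mem_center_iff.1 hvZ
      generalize v⁻¹ * φ v = c at hc
      unfold cm
      calc v * c * φ w * (v * c)⁻¹ * (φ w)⁻¹ = v * (c * φ w) * c⁻¹ * v⁻¹ * (φ w)⁻¹ := by group
        _ = v * φ w * v⁻¹ * (φ w)⁻¹ := by rw [← hc (φ w)]; group
    have e2 : cm v (w * (w⁻¹ * φ w)) = cm v w := by
      rw [mul_inv_cancel_left, ← e1, ← hcmφ, hZ _ (h.cm_mem v w)]
    rw [cm_mul_left h, mul_eq_left] at e2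
    unfold cm at e2
    rw [mul_inv_eq_one, mul_inv_eq_iff_eq_mul] at e2
    exact e2
  have hdd : ∀ d, Commute v d → d⁻¹ * φ d ∈ Subgroup.center T := by
    intro d hvd
    have hvd' : Commute v (φ d) := by
      have h2 : Commute (v * (v⁻¹ * φ v)) (φ d) := by
        rw [mul_inv_cancel_left]; exact hvd.map φ.toMonoidHom
      have hc : Commute (v⁻¹ * φ v)⁻¹ (φ d) :=
        ((Subgroup.mem_center_iff.1 ((Subgroup.center T).inv_mem hvZ) (φ d)).symm : _)
      simpa using h2.mul_left hc
    have hcd : Commute d⁻¹ (φ d) := (h.cent_comm v d (φ d) hv hvd hvd').inv_left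
    refine h.sq_one _ ?_
    rw [sq_of_comm h hcd, ← map_mul, hZ _ (h.sq_mem d), ← mul_inv_rev, inv_mul_cancel]
  have h2 : ∀ w, w⁻¹ * φ (φ w) ∈ Subgroup.center T := by
    intro w
    have hc := hdd _ (hd w)
    have hw : φ (φ w) = w * ((w⁻¹ * φ w) * ((w⁻¹ * φ w) * ((w⁻¹ * φ w)⁻¹ * φ (w⁻¹ * φ w)))) := by
      simp [map_mul, map_inv, mul_assoc]
    rw [hw, inv_mul_cancel_left, ← mul_assoc]
    exact mul_mem (h.sq_mem _) hc
  have hiter : ∀ (j : ℕ) w, (φ ^ (2 * j)) w = w * (w⁻¹ * φ (φ w)) ^ j := by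
    intro j
    induction j with
    | zero => intro w; simp
    | succ j ih =>
      intro w
      rw [show 2 * (j + 1) = (2 * j + 1) + 1 by ring, pow_succ, pow_succ, MulAut.mul_apply,
        MulAut.mul_apply, ih, show φ (φ w) = w * (w⁻¹ * φ (φ w)) by group]
      have hfix : φ (φ (w⁻¹ * φ (φ w))) = w⁻¹ * φ (φ w) := by rw [hZ _ (h2 w), hZ _ (h2 w)]
      generalize hc : w⁻¹ * φ (φ w) = c at hfix
      have hw : φ (φ w) = w * c := by rw [← hc]; group
      rw [show (w * c)⁻¹ * φ (φ (w * c)) = c by rw [map_mul, map_mul, hw, hfix]; group,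
        show w⁻¹ * (w * c) = c by group, mul_assoc, ← pow_succ']
  have hsq : φ * φ = 1 := by
    refine MulEquiv.ext fun w => ?_
    have h1 := hiter k w
    rw [mul_comm 2 k, pow_mul, hφ, one_pow, MulAut.one_apply, left_eq_mul] at h1
    obtain ⟨m, rfl⟩ := hk
    rw [pow_succ, pow_mul, pow_two, h.center_sq _ (h2 w), one_pow, one_mul, inv_mul_eq_one] at h1
    exact h1.symm
  obtain ⟨m, rfl⟩ := hk
  rwa [pow_succ, pow_mul, pow_two, hsq, one_pow, one_mul] at hφ

end CfsgLib.UThreeSylow
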