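import Mathlib
import Cfsg.Agent.Lib.UThreeSylow.Struct
import Cfsg.Agent.Lib.UThreeSylow.Abelian
import Cfsg.Agent.Lib.InvChar.InvolutionCores
import Cfsg.Agent.Lib.ThreeOrders.Strong
import Cfsg.Agent.S0215

/-!
# Local facts for groups with a Sylow 2-subgroup of the type of `PSU₃(2^n)`
-/

set_option autoImplicit false
set_option linter.style.haveILetI false
set_option linter.unusedSectionVars false

namespace CfsgLib.UThreeSylow

open Subgroup CfsgLib.InvChar.InvolutionCores

universe u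

variable {G : Type u} [Group G] [Finite G]

/-- `G` is its odd core times a Sylow 2-normaliser. -/
def CoreClosed (G : Type u) [Group G] : Prop :=
  ∀ T : Sylow 2 G, Cfsg.oddCore G ⊔ normalizer ((T : Subgroup G) : Set G) = ⊤

theorem coreClosed_of_normal_quotient (T : Sylow 2 G)
    (h : ((T : Subgroup G).map (QuotientGroup.mk' (Cfsg.oddCore G))).Normal) : CoreClosed G := by
  have : Fact (Nat.Prime 2) := ⟨Nat.prime_two⟩
  intro U
  have hU : (U : Subgroup G).map (QuotientGroup.mk' (Cfsg.oddCore G)) =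
      (T : Subgroup G).map (QuotientGroup.mk' (Cfsg.oddCore G)) := by
    obtain ⟨g, hg⟩ := MulAction.exists_smul_eq G T U
    rw [← hg, Sylow.coe_subgroup_smul]
    ext x
    constructor
    · rintro ⟨_, ⟨y, hy, rfl⟩, rfl⟩
      simpa [MulAut.conj_apply] using
        h.conj_mem _ (mem_map_of_mem (QuotientGroup.mk' (Cfsg.oddCore G)) hy)
          (QuotientGroup.mk' (Cfsg.oddCore G) g)
    · intro hx
      have hy := h.conj_mem _ hx (QuotientGroup.mk' (Cfsg.oddCore G) g⁻¹)
      obtain ⟨y, hy, hyx⟩ := hy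
      refine ⟨g * y * g⁻¹, ⟨y, hy, rfl⟩, ?_⟩
      simp only [map_mul, map_inv, hyx]
      group
  refine top_le_iff.1 fun x _ => ?_
  obtain ⟨k, hk, hkx⟩ := PLocal.exists_mul_mem_normalizer (N := Cfsg.oddCore G)
    CfsgLib.PCore.pPrimeCore_coprime U.2 (x := x) (fun y hy => by
      have hyU : QuotientGroup.mk' (Cfsg.oddCore G) y ∈
          (U : Subgroup G).map (QuotientGroup.mk' (Cfsg.oddCore G)) := mem_map_of_mem _ hy
      rw [hU] at hyU
      have hc := h.conj_mem _ hyU (QuotientGroup.mk' (Cfsg.oddCore G) x)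
      rw [← hU] at hc
      obtain ⟨z, hz, hzx⟩ := hc
      exact ⟨z, hz, by rw [hzx, map_mul, map_mul, map_inv]⟩)
  rw [show x = k⁻¹ * (k * x) by group]
  exact mul_mem_sup (inv_mem hk) hkx

theorem normal_quotient_of_coreClosed (T : Sylow 2 G) (h : CoreClosed G) :
    ((T : Subgroup G).map (QuotientGroup.mk' (Cfsg.oddCore G))).Normal := by
  refine ⟨?_⟩
  rintro _ ⟨y, hy, rfl⟩ g
  obtain ⟨g, rfl⟩ := QuotientGroup.mk'_surjective (Cfsg.oddCore G) g
  obtain ⟨k, hk, n, hn, rfl⟩ : ∃ k ∈ Cfsg.oddCore G, ∃ n ∈ normalizer ((T : Subgroup G) : Set G),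
      k * n = g := mem_sup_of_normal_left.1 (h T ▸ mem_top g)
  refine ⟨n * y * n⁻¹, (mem_normalizer_iff.1 hn y).1 hy, ?_⟩
  simp only [map_mul, map_inv, show QuotientGroup.mk' (Cfsg.oddCore G) k = 1 from
    (QuotientGroup.eq_one_iff k).2 hk, one_mul]

theorem solvable_of_coreClosed (h : CoreClosed G) : Group.IsSolvable G := by
  have : Fact (Nat.Prime 2) := ⟨Nat.prime_two⟩
  obtain ⟨T⟩ := (inferInstance : Nonempty (Sylow 2 G))
  set O := Cfsg.oddCore G
  haveI hn := normal_quotient_of_coreClosed T h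
  set Tb := (T : Subgroup G).map (QuotientGroup.mk' O) with hTb
  haveI : Group.IsSolvable O :=
    @CfsgLib.PF.oddSolvable.{u} O _ _ (Nat.coprime_two_right.1 CfsgLib.PCore.pPrimeCore_coprime)
  have hTp : IsPGroup 2 Tb := T.2.map _
  haveI := hTp.isNilpotent
  have hodd : Odd (Nat.card ((G ⧸ O) ⧸ Tb)) := by
    rw [← index_eq_card, ← Nat.not_even_iff_odd, even_iff_two_dvd]
    exact (T.mapSurjective (QuotientGroup.mk'_surjective O)).not_dvd_index
  haveI : Group.IsSolvable ((G ⧸ O) ⧸ Tb) := @CfsgLib.PF.oddSolvable.{u} _ _ _ hodd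
  haveI : Group.IsSolvable (G ⧸ O) := Group.isSolvable_of_ker_le_range Tb.subtype (QuotientGroup.mk' Tb)
    (by rw [QuotientGroup.ker_mk', range_subtype])
  exact Group.isSolvable_of_ker_le_range O.subtype (QuotientGroup.mk' O)
    (by rw [QuotientGroup.ker_mk', range_subtype])

theorem coreClosed_of_solvable_abelian [Group.IsSolvable G] (T : Sylow 2 G)
    (hcomm : ∀ x ∈ (T : Subgroup G), ∀ y ∈ (T : Subgroup G), x * y = y * x) : CoreClosed G := by
  have : Fact (Nat.Prime 2) := ⟨Nat.prime_two⟩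
  refine coreClosed_of_normal_quotient T ?_
  set O := Cfsg.oddCore G
  set Tb : Sylow 2 (G ⧸ O) := T.mapSurjective (QuotientGroup.mk'_surjective O)
  have hR : centralizer (Cfsg.pCore 2 (G ⧸ O) : Set (G ⧸ O)) ≤ Cfsg.pCore 2 (G ⧸ O) :=
    CfsgLib.PLocal.isPConstrained_iff.1 (ThreeOrders.isPConstrained_of_solvable G)
  have hle : (Tb : Subgroup (G ⧸ O)) ≤ Cfsg.pCore 2 (G ⧸ O) := by
    refine le_trans (fun t ht => mem_centralizer_iff.2 fun r hr => ?_) hR
    obtain ⟨x, hx, rfl⟩ := ht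
    obtain ⟨y, hy, rfl⟩ := CfsgLib.PCore.pCore_le_sylow Tb hr
    rw [← map_mul, ← map_mul, hcomm y hy x hx]
  have he : (Tb : Subgroup (G ⧸ O)) = Cfsg.pCore 2 (G ⧸ O) :=
    le_antisymm hle (CfsgLib.PCore.pCore_le_sylow Tb)
  show (Tb : Subgroup (G ⧸ O)).Normal
  rw [he]
  exact Cfsg.pCore_normal 2 _

/-- The core of a centraliser only depends on the centraliser. -/
theorem cc_le_of_centralizer_eq {a b : G}
    (h : centralizer ({a} : Set G) = centralizer ({b} : Set G)) : cc a ≤ cc b :=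
  le_cc (h ▸ cc_le a) (odd_card_cc a) fun g hg _ hy => conj_mem_cc
    (mem_centralizer_singleton_iff.1 (h ▸ mem_centralizer_singleton_iff.2 hg.eq)) hy

theorem centralizer_mul_central {a z : G} (hz : z ∈ center G) :
    centralizer ({a * z} : Set G) = centralizer ({a} : Set G) := by
  ext g
  rw [mem_centralizer_singleton_iff, mem_centralizer_singleton_iff]
  have hc := mem_center_iff.1 hz g
  constructor
  · intro hh
    refine mul_right_cancel (b := z) ?_
    rw [mul_assoc g, hh, mul_assoc a z g, ← hc, mul_assoc]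
  · intro hh
    rw [← mul_assoc, hh, mul_assoc a g, hc, mul_assoc]

/-- Balance for 2-elements with constrained centralisers. -/
theorem balance_two {a b y : G} (ha : Con a) (hb : IsPGroup 2 (zpowers b)) (hab : Commute a b)
    (hy : y ∈ cc b) (hya : Commute y a) : y ∈ cc a := by
  classical
  have : Fact (Nat.Prime 2) := ⟨Nat.prime_two⟩
  set N := centralizer ({a} : Set G) with hN
  set O := Cfsg.pPrimeCore 2 ↥N with hO
  have : O.Normal := Cfsg.pPrimeCore_normal 2 _
  set y' : ↥N := ⟨y, mem_centralizer_singleton_iff.2 hya.eq⟩ with hy'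
  set b' : ↥N := ⟨b, mem_centralizer_singleton_iff.2 hab.symm.eq⟩ with hb'
  have hb'p : IsPGroup 2 (zpowers b') := by
    refine hb.of_injective ((N.subtype.domRestrict (zpowers b')).codRestrict (zpowers b) fun x => ?_) ?_
    · obtain ⟨i, hi⟩ := mem_zpowers_iff.1 x.2
      exact mem_zpowers_iff.2 ⟨i, by
        show b ^ i = ((x : ↥N) : G)
        rw [← hi]; rfl⟩
    · intro u v e
      exact Subtype.ext (Subtype.ext (congrArg Subtype.val e :))
  set q := QuotientGroup.mk' O with hq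
  set R := Cfsg.pCore 2 (↥N ⧸ O) with hR
  have hchar : centralizer (R : Set (↥N ⧸ O)) ≤ R := CfsgLib.PLocal.isPConstrained_iff.1 ha
  have hyodd : (orderOf (q y')).Coprime 2 := by
    refine Nat.coprime_comm.1 ((Nat.prime_two.coprime_iff_not_dvd).2 fun h => ?_)
    have h1 : 2 ∣ orderOf y := Subgroup.orderOf_coe y' ▸ h.trans (orderOf_map_dvd q y')
    exact Nat.not_even_iff_odd.2 (odd_orderOf_cc hy) (even_iff_two_dvd.2 h1)
  have hRp : IsPGroup 2 ↥R := CfsgLib.LocalEvenCharP.isPGroup_pCore 2 _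
  have hRn : R.Normal := Cfsg.pCore_normal 2 _
  have hNR : normalizer (R : Set (↥N ⧸ O)) = ⊤ := normalizer_eq_top_iff.2 hRn
  have hcy : Commute (q y') (q b') :=
    (show Commute y' b' from Subtype.ext (commute_of_mem_cc hy).eq).map q
  have hfix : ∀ r ∈ R, r ∈ centralizer ((zpowers (q b') : Subgroup (↥N ⧸ O)) : Set (↥N ⧸ O)) →
      q y' * r = r * q y' := by
    intro r hr hrb
    obtain ⟨r', rfl⟩ := QuotientGroup.mk'_surjective O r
    have hcop : (Nat.card ↥O).Coprime 2 := CfsgLib.PCore.pPrimeCore_coprime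
    obtain ⟨n, hn, hnr⟩ := CfsgLib.PLocal.exists_mul_mem_centralizer (p := 2) hcop
      (P := zpowers b') hb'p (x := r') (by rw [MonoidHom.map_zpowers]; exact hrb)
    have hnr' : q (n * r') = q r' := by
      rw [map_mul, show q n = 1 from (QuotientGroup.eq_one_iff n).2 hn, one_mul]
    have hcb : Commute ((n * r' : ↥N) : G) b :=
      (congrArg Subtype.val (mem_centralizer_iff.1 hnr b' (mem_zpowers b'))).symm
    set d : ↥N := y' * (n * r') * y'⁻¹ * (n * r')⁻¹ with hd
    have hdY : (d : G) ∈ cc b := by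
      have h1 := conj_mem_cc hcb ((cc b).inv_mem hy)
      have h2 := (cc b).mul_mem hy h1
      simpa [hd, hy', mul_assoc] using h2
    have hdR : q d ∈ R := by
      rw [hd, map_mul, map_mul, map_mul, map_inv, map_inv, hnr']
      exact R.mul_mem (hRn.conj_mem _ hr _) (R.inv_mem hr)
    have hd1 : q d = 1 := by
      refine CfsgLib.LocalEvenCharP.eq_one_of_coprime_of_mem hRp hdR ?_
      refine Nat.coprime_comm.1 ((Nat.prime_two.coprime_iff_not_dvd).2 fun h => ?_)
      have h1 : 2 ∣ orderOf (d : G) := Subgroup.orderOf_coe d ▸ h.trans (orderOf_map_dvd q d)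
      exact Nat.not_even_iff_odd.2 (odd_orderOf_cc hdY) (even_iff_two_dvd.2 h1)
    rw [hd, map_mul, map_mul, map_mul, map_inv, map_inv, hnr', mul_inv_eq_one,
      mul_inv_eq_iff_eq_mul] at hd1
    exact hd1
  have hyR : q y' ∈ centralizer (R : Set (↥N ⧸ O)) :=
    CfsgLib.Components.mem_centralizer_of_AxB hRp
      (by
        have := hb'p.map q
        rwa [MonoidHom.map_zpowers] at this)
      (hNR ▸ le_top) (hNR ▸ mem_top _)
      (mem_centralizer_iff.2 fun u hu => by
        obtain ⟨k, rfl⟩ := mem_zpowers_iff.1 hu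
        exact (hcy.zpow_right k).eq.symm) hyodd hfix
  have h1 := CfsgLib.LocalEvenCharP.eq_one_of_coprime_of_mem hRp (hchar hyR) hyodd
  exact ⟨y', (QuotientGroup.eq_one_iff y').1 h1, rfl⟩

variable {q : ℕ} (S : Sylow 2 G)

/-- The centre of the Sylow subgroup, inside the group. -/
noncomputable def zS : Subgroup G :=
  (center ↥(S : Subgroup G)).map (S : Subgroup G).subtype

variable {S}

theorem mem_zS {x : G} : x ∈ zS S ↔ x ∈ (S : Subgroup G) ∧ ∀ s ∈ (S : Subgroup G), s * x = x * s := by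
  constructor
  · rintro ⟨y, hy, rfl⟩
    exact ⟨y.2, fun s hs => congrArg Subtype.val (mem_center_iff.1 hy ⟨s, hs⟩)⟩
  · rintro ⟨hx, hc⟩
    exact ⟨⟨x, hx⟩, mem_center_iff.2 fun s => Subtype.ext (hc _ s.2), rfl⟩

theorem zS_le : zS S ≤ (S : Subgroup G) := fun _ hx => (mem_zS.1 hx).1

theorem mem_center_iff_zS {x : ↥(S : Subgroup G)} : x ∈ center ↥(S : Subgroup G) ↔ (x : G) ∈ zS S :=
  ⟨fun h => ⟨x, h, rfl⟩, fun h => by
    obtain ⟨y, hy, e⟩ := h
    rwa [← Subtype.ext e]⟩

theorem le_centralizer_of_mem_zS {a : G} (ha : a ∈ zS S) :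
    (S : Subgroup G) ≤ centralizer ({a} : Set G) := fun s hs =>
  mem_centralizer_singleton_iff.2 ((mem_zS.1 ha).2 s hs)

theorem zS_comm {a b : G} (ha : a ∈ zS S) (hb : b ∈ zS S) : a * b = b * a :=
  (mem_zS.1 hb).2 a (zS_le ha)

theorem normalizer_le_normalizer_zS :
    normalizer ((S : Subgroup G) : Set G) ≤ normalizer (zS S : Set G) := by
  intro n hn
  have key : ∀ n ∈ normalizer ((S : Subgroup G) : Set G), ∀ x ∈ zS S, n * x * n⁻¹ ∈ zS S := by
    intro n hn x hx
    refine mem_zS.2 ⟨(mem_normalizer_iff.1 hn x).1 (zS_le hx), fun s hs => ?_⟩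
    have hs' : n⁻¹ * s * n ∈ (S : Subgroup G) := by
      have := (mem_normalizer_iff.1 (inv_mem hn) s).1 hs
      rwa [inv_inv] at this
    calc s * (n * x * n⁻¹) = n * (n⁻¹ * s * n * x) * n⁻¹ := by group
      _ = n * (x * (n⁻¹ * s * n)) * n⁻¹ := by rw [(mem_zS.1 hx).2 _ hs']
      _ = n * x * n⁻¹ * s := by group
  refine mem_normalizer_iff.2 fun x => ⟨key n hn x, fun hx => ?_⟩
  have := key n⁻¹ (inv_mem hn) _ hx
  rwa [inv_inv, show n⁻¹ * (n * x * n⁻¹) * n = x by group] at this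

/-- Elements of `Z(S)` conjugate in `G` are conjugate in `N(S)`. -/
theorem fusion_zS {x g : G} (hx : x ∈ zS S) (hgx : g * x * g⁻¹ ∈ zS S) :
    ∃ n ∈ normalizer ((S : Subgroup G) : Set G), n * x * n⁻¹ = g * x * g⁻¹ := by
  have : Fact (Nat.Prime 2) := ⟨Nat.prime_two⟩
  have hc : ∀ y ∈ zS S, y ∈ centralizer ((S : Subgroup G) : Set G) := fun y hy =>
    mem_centralizer_iff.2 (mem_zS.1 hy).2
  obtain ⟨n, hn, he⟩ := S.conj_eq_normalizer_conj_of_mem_centralizer x g⁻¹ (hc x hx)
    (by rw [inv_inv]; exact hc _ hgx)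
  rw [inv_inv] at he
  exact ⟨n⁻¹, inv_mem hn, by rw [inv_inv]; exact he.symm⟩

variable (h : UT ↥(S : Subgroup G) q)
include h

theorem zS_sq {a : G} (ha : a ∈ zS S) : a * a = 1 :=
  congrArg Subtype.val (h.center_sq ⟨a, zS_le ha⟩ (mem_center_iff_zS.2 ha))

theorem mem_zS_of_sq {x : G} (hx : x ∈ (S : Subgroup G)) (hx2 : x * x = 1) : x ∈ zS S :=
  mem_center_iff_zS.1 (h.sq_one ⟨x, hx⟩ (Subtype.ext hx2))

theorem sq_mem_zS {x : G} (hx : x ∈ (S : Subgroup G)) : x * x ∈ zS S :=
  mem_center_iff_zS.1 (h.sq_mem ⟨x, hx⟩)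

theorem card_zS : Nat.card (zS S) = q := by
  rw [zS, card_map_of_injective (subtype_injective _), h.card_center]

theorem zS_elementary : Cfsg.IsElementaryAbelian 2 (zS S) :=
  ⟨⟨⟨fun a b => Subtype.ext (zS_comm a.2 b.2)⟩⟩, fun a ha => by rw [pow_two, zS_sq h ha]⟩

theorem sylow_le_normalizer_zS : (S : Subgroup G) ≤ normalizer (zS S : Set G) :=
  le_normalizer.trans normalizer_le_normalizer_zS

/-- Without core, an involution of `Z(S)` fixed by `N(S)` is central. -/
theorem central_of_fixed (hO : Cfsg.oddCore G = ⊥) {a : G} (ha : a ∈ zS S)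
    (hfix : ∀ n ∈ normalizer ((S : Subgroup G) : Set G), n * a * n⁻¹ = a) : a ∈ center G := by
  rcases eq_or_ne a 1 with rfl | ha1
  · exact one_mem _
  have : Fact (Nat.Prime 2) := ⟨Nat.prime_two⟩
  have hao : orderOf a = 2 := orderOf_eq_prime (by rw [pow_two, zS_sq h ha]) ha1
  obtain ⟨N, hN, hNodd, hc⟩ := Cfsg.Agent.S0215.result S a hao (zS_le ha) (fun g hg => by
    have hE : g * a * g⁻¹ ∈ zS S := mem_zS_of_sq h hg (by
      rw [show g * a * g⁻¹ * (g * a * g⁻¹) = g * (a * a) * g⁻¹ by group, zS_sq h ha]; group)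
    obtain ⟨n, hn, he⟩ := fusion_zS ha hE
    rw [← he, hfix n hn])
  have hNbot : N = ⊥ := by
    rw [← le_bot_iff, ← hO]
    exact le_sSup ⟨hN, Nat.coprime_two_right.2 hNodd⟩
  refine mem_center_iff.2 fun g => ?_
  have h1 := hc g
  rw [hNbot, mem_bot, mul_inv_eq_one, mul_inv_eq_iff_eq_mul] at h1
  exact h1.symm

/-- The centraliser of an element of order four of `S`. -/
theorem allSq_centralizer {x : G} (hx2 : x * x ≠ 1) (hxS : x ∈ (S : Subgroup G)) :
    ∃ T : Sylow 2 ↥(centralizer ({x} : Set G)),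
      (T : Subgroup ↥(centralizer ({x} : Set G))) = (S : Subgroup G).comap (centralizer ({x} : Set G)).subtype ∧
      (∀ a ∈ (T : Subgroup ↥(centralizer ({x} : Set G))), ∀ b ∈ (T : Subgroup ↥(centralizer ({x} : Set G))),
        a * b = b * a) ∧ AllSq (T : Subgroup ↥(centralizer ({x} : Set G))) := by
  have : Fact (Nat.Prime 2) := ⟨Nat.prime_two⟩
  set C := centralizer ({x} : Set G) with hCdef
  obtain ⟨P⟩ := (inferInstance : Nonempty (Sylow 2 C))
  set x' : C := ⟨x, mem_centralizer_singleton_iff.2 rfl⟩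
  have hx'P : x' ∈ (P : Subgroup C) := by
    obtain ⟨i, hi⟩ := S.2 ⟨x, hxS⟩
    have hi' : x' ^ 2 ^ i = 1 := Subtype.ext (by simpa [x'] using congrArg Subtype.val hi)
    have hZp : IsPGroup 2 (zpowers x') := by
      intro y
      obtain ⟨j, hj⟩ := mem_zpowers_iff.1 y.2
      refine ⟨i, Subtype.ext ?_⟩
      show (y : C) ^ 2 ^ i = 1
      rw [← hj, ← zpow_natCast, ← zpow_mul, mul_comm, zpow_mul, zpow_natCast, hi', one_zpow]
    have hn : zpowers x' ≤ normalizer ((P : Subgroup C) : Set C) := zpowers_le.2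
      (mem_normalizer_iff.2 fun u => by
        rw [show x' * u * x'⁻¹ = u by
          rw [show x' * u = u * x' from Subtype.ext (mem_centralizer_singleton_iff.1 u.2).symm,
            mul_inv_cancel_right]])
    have h1 : x' ∈ zpowers x' ⊓ normalizer ((P : Subgroup C) : Set C) :=
      ⟨mem_zpowers x', hn (mem_zpowers x')⟩
    exact (le_of_eq (hZp.inf_normalizer_sylow P) h1).2
  -- the subgroups `C ∩ S^g`
  have hR : ∀ g : G, g * x * g⁻¹ ∈ (S : Subgroup G) →
      let R : Subgroup C := (S : Subgroup G).comap ((MulAut.conj g).toMonoidHom.comp C.subtype)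
      Nat.card R = q * q ∧ (∀ a ∈ R, ∀ b ∈ R, a * b = b * a) ∧ AllSq R := by
    intro g hgS R
    set y : ↥(S : Subgroup G) := ⟨g * x * g⁻¹, hgS⟩ with hy
    have hyc : y ∉ center ↥(S : Subgroup G) := fun hc => hx2 (by
      have h1 : g * (x * x) * g⁻¹ = 1 := by
        rw [show (1 : G) = ((y * y : ↥(S : Subgroup G)) : G) by rw [h.center_sq y hc]; rfl]
        show g * (x * x) * g⁻¹ = g * x * g⁻¹ * (g * x * g⁻¹)
        group
      rwa [mul_inv_eq_one, mul_eq_left] at h1)
    have hcomm : ∀ u : G, Commute (g * x * g⁻¹) (g * u * g⁻¹) ↔ u ∈ C := fun u => by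
      rw [hCdef, mem_centralizer_singleton_iff]
      constructor
      · intro hh
        exact ((MulAut.conj g).injective (by rw [map_mul, map_mul]; exact hh.eq)).symm
      · intro hh
        exact ((show Commute x u from hh.symm).map (MulAut.conj g).toMonoidHom : _)
    have hcy : ∀ u ∈ R, ∀ hu : g * (u : G) * g⁻¹ ∈ (S : Subgroup G), Commute y ⟨_, hu⟩ :=
      fun u _ hu => Subtype.ext ((hcomm u).2 u.2).eq
    refine ⟨?_, ?_, ?_, ?_⟩
    · refine Eq.trans ?_ (card_commute h hyc)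
      exact Nat.card_congr
        { toFun := fun u => ⟨⟨_, u.2⟩, hcy u.1 u.2 u.2⟩
          invFun := fun w => ⟨⟨g⁻¹ * (w.1 : G) * g, (hcomm _).1 (by
              rw [show g * (g⁻¹ * (w.1 : G) * g) * g⁻¹ = (w.1 : G) by group]
              exact congrArg Subtype.val w.2.eq)⟩, by
              show g * (g⁻¹ * (w.1 : G) * g) * g⁻¹ ∈ (S : Subgroup G)
              rw [show g * (g⁻¹ * (w.1 : G) * g) * g⁻¹ = (w.1 : G) by group]
              exact w.1.2⟩
          left_inv := fun u => Subtype.ext (Subtype.ext (by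
            show g⁻¹ * (g * (u : C) * g⁻¹) * g = ((u : C) : G)
            group))
          right_inv := fun w => Subtype.ext (Subtype.ext (by
            show g * (g⁻¹ * (w.1 : G) * g) * g⁻¹ = (w.1 : G)
            group)) }
    · exact fun a ha b hb => Subtype.ext ((MulAut.conj g).injective (by
        rw [Subgroup.coe_mul, Subgroup.coe_mul, map_mul, map_mul]
        exact congrArg Subtype.val (h.cent_comm y ⟨_, ha⟩ ⟨_, hb⟩ hyc (hcy a ha ha) (hcy b hb hb)).eq))
    · intro a ha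
      refine Subtype.ext ((MulAut.conj g).injective ?_)
      simp only [Subgroup.coe_mul, map_mul, Subgroup.coe_one, map_one]
      exact congrArg Subtype.val (h.center_sq _ (h.sq_mem ⟨_, ha⟩))
    · intro a ha ha1
      have hz : (⟨_, ha⟩ : ↥(S : Subgroup G)) ∈ center ↥(S : Subgroup G) :=
        h.sq_one _ (Subtype.ext (by
          show g * (a : G) * g⁻¹ * (g * (a : G) * g⁻¹) = 1
          rw [show g * (a : G) * g⁻¹ * (g * (a : G) * g⁻¹) = g * ((a : G) * a) * g⁻¹ by group,
            show (a : G) * a = 1 from congrArg Subtype.val ha1]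
          group))
      obtain ⟨w, hwy, hw⟩ := exists_sq_commute h hyc hz
      refine ⟨⟨g⁻¹ * (w : G) * g, (hcomm _).1 (by
          rw [show g * (g⁻¹ * (w : G) * g) * g⁻¹ = (w : G) by group]
          exact congrArg Subtype.val hwy.eq)⟩, ?_, Subtype.ext ?_⟩
      · show g * (g⁻¹ * (w : G) * g) * g⁻¹ ∈ (S : Subgroup G)
        rw [show g * (g⁻¹ * (w : G) * g) * g⁻¹ = (w : G) by group]
        exact w.2
      · show g⁻¹ * (w : G) * g * (g⁻¹ * (w : G) * g) = a
        have h1 : (w : G) * w = g * (a : G) * g⁻¹ := congrArg Subtype.val hw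
        rw [show g⁻¹ * (w : G) * g * (g⁻¹ * (w : G) * g) = g⁻¹ * ((w : G) * w) * g by group, h1]
        group
  -- move `P` into `S` to compare orders
  obtain ⟨Q, hQ⟩ := (P.2.map C.subtype).exists_le_sylow
  obtain ⟨g, hg⟩ := MulAction.exists_smul_eq G Q S
  have hPS : ∀ u ∈ (P : Subgroup C), g * (u : G) * g⁻¹ ∈ (S : Subgroup G) := fun u hu => by
    rw [← hg, Sylow.coe_subgroup_smul]
    exact ⟨u, hQ ⟨u, hu, rfl⟩, rfl⟩
  obtain ⟨hPcard, -, -⟩ := hR g (hPS x' hx'P)
  let R : Subgroup C := (S : Subgroup G).comap ((MulAut.conj g).toMonoidHom.comp C.subtype)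
  have hRp : IsPGroup 2 R := S.2.comap_of_injective _
    (fun a b e => Subtype.ext ((MulAut.conj g).injective e))
  have hPR : (P : Subgroup C) = R := (P.is_maximal' hRp fun u hu => hPS u hu).symm
  obtain ⟨h0card, h0c, h0sq⟩ := hR 1 (by rw [one_mul, inv_one, mul_one]; exact hxS)
  let R₀ : Subgroup C := (S : Subgroup G).comap C.subtype
  have e0 : (S : Subgroup G).comap ((MulAut.conj (1 : G)).toMonoidHom.comp C.subtype) = R₀ := by
    ext u; simp [R₀, mem_subgroupOf]
  rw [e0] at h0card h0c h0sq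
  have hR₀ : IsPGroup 2 R₀ := S.2.comap_of_injective _ C.subtype_injective
  obtain ⟨P₀, hP₀⟩ := hR₀.exists_le_sylow
  have hP0 : (P₀ : Subgroup C) = R₀ := (eq_of_le_of_card_ge hP₀ (by
    rw [h0card, ← hPcard]
    exact le_of_eq ((Nat.card_congr (Sylow.equiv P₀ P).toEquiv).trans (by rw [hPR])))).symm
  exact ⟨P₀, hP0, hP0 ▸ h0c, hP0 ▸ h0sq⟩

/-- The centraliser of an element of order four is solvable and closed over its core. -/
theorem coreClosed_centralizer {x : G} (hx2 : x * x ≠ 1) (hxS : x ∈ (S : Subgroup G)) :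
    CoreClosed ↥(centralizer ({x} : Set G)) ∧ Group.IsSolvable ↥(centralizer ({x} : Set G)) := by
  obtain ⟨T, -, hc, hsq⟩ := allSq_centralizer h hx2 hxS
  haveI := solvable_of_allSq _ T hc hsq
  exact ⟨coreClosed_of_solvable_abelian T hc, inferInstance⟩

end CfsgLib.UThreeSylow
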