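import Mathlib
import Cfsg.Agent.Lib.UThreeSylow.Local

/-!
# Groups with Sylow 2-subgroups of the type of `PSU₃(2^n)`: the centre of the Sylow subgroup is central

The quotient by this centre has elementary Sylow 2-subgroups and solvable involution centralisers,
and its fusion would fix the squares, so the Sylow subgroup is normal.
-/

set_option autoImplicit false
set_option linter.style.haveILetI false
set_option linter.unusedSectionVars false

namespace CfsgLib.UThreeSylow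

open Subgroup

universe u

variable {G : Type u} [Group G] [Finite G] {q : ℕ} {S : Sylow 2 G}

theorem mem_of_odd_pow_of_two_pow {H : Subgroup G} {n : G} {k a : ℕ} (hk : Odd k) (h1 : n ^ k ∈ H)
    (h2 : n ^ 2 ^ a ∈ H) : n ∈ H := by
  have hg : Int.gcd (k : ℤ) ((2 ^ a : ℕ) : ℤ) = 1 := (Nat.coprime_two_right.2 hk).pow_right a
  have e := Int.gcd_eq_gcd_ab (k : ℤ) ((2 ^ a : ℕ) : ℤ)
  rw [hg] at e
  have h3 : n ^ ((k : ℤ) * Int.gcdA k (2 ^ a : ℕ) + ((2 ^ a : ℕ) : ℤ) * Int.gcdB k (2 ^ a : ℕ)) ∈ H := by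
    rw [zpow_add, zpow_mul, zpow_mul, zpow_natCast, zpow_natCast]
    exact mul_mem (zpow_mem h1 _) (zpow_mem h2 _)
  rwa [← e, Nat.cast_one, zpow_one] at h3

theorem normal_of_central (h : UT ↥(S : Subgroup G) q) (hq : 4 ≤ q) (hO : Cfsg.oddCore G = ⊥)
    (hc : ∀ a ∈ zS S, a ∈ center G) : (S : Subgroup G).Normal := by
  classical
  have : Fact (Nat.Prime 2) := ⟨Nat.prime_two⟩
  haveI : (zS S).Normal := ⟨fun y hy g => by rwa [mem_center_iff.1 (hc y hy) g, mul_inv_cancel_right]⟩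
  set π := QuotientGroup.mk' (zS S)
  set V : Sylow 2 (G ⧸ zS S) := S.mapSurjective (QuotientGroup.mk'_surjective (zS S))
  have hV2 : ∀ v ∈ (V : Subgroup (G ⧸ zS S)), v * v = 1 := by
    rintro _ ⟨x, hx, rfl⟩
    rw [← map_mul]
    exact (QuotientGroup.eq_one_iff _).2 (sq_mem_zS h hx)
  have hVc : ∀ a ∈ (V : Subgroup (G ⧸ zS S)), ∀ b ∈ (V : Subgroup (G ⧸ zS S)), a * b = b * a := by
    intro a ha b hb
    have h1 := inv_eq_of_mul_eq_one_right (hV2 _ (mul_mem ha hb))
    rwa [mul_inv_rev, inv_eq_of_mul_eq_one_right (hV2 a ha), inv_eq_of_mul_eq_one_right (hV2 b hb),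
      eq_comm] at h1
  have hC : ∀ t : G ⧸ zS S, orderOf t = 2 → Group.IsSolvable ↥(centralizer ({t} : Set (G ⧸ zS S))) := by
    intro t ht
    have hp : IsPGroup 2 (zpowers t) := IsPGroup.of_card (n := 1) (by rw [Nat.card_zpowers, ht, pow_one])
    obtain ⟨Q, hQ⟩ := hp.exists_le_sylow
    obtain ⟨g, hg⟩ := MulAction.exists_smul_eq (G ⧸ zS S) Q V
    have hgt : g * t * g⁻¹ ∈ (V : Subgroup (G ⧸ zS S)) := by
      rw [← hg, Sylow.coe_subgroup_smul]; exact ⟨t, hQ (mem_zpowers t), rfl⟩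
    obtain ⟨y, hy, hyt⟩ := hgt
    have hy2 : y * y ≠ 1 := fun hy2 => by
      have h1 : π y = 1 := (QuotientGroup.eq_one_iff y).2 (mem_zS_of_sq h hy hy2)
      have h2 : g * t * g⁻¹ = 1 := hyt.symm.trans h1
      rw [show t = g⁻¹ * (g * t * g⁻¹) * g by group, h2, mul_one, inv_mul_cancel, orderOf_one] at ht
      exact absurd ht (by norm_num)
    have hsol := solvable_centralizer_quotient (zS S) hc (coreClosed_centralizer h hy2 hy).2
    rw [show QuotientGroup.mk' (zS S) y = g * t * g⁻¹ from hyt] at hsol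
    haveI := hsol
    exact Group.isSolvable_of_isSolvable_injective
      (f := ((MulAut.conj g).toMonoidHom.comp (centralizer ({t} : Set (G ⧸ zS S))).subtype).codRestrict
        (centralizer ({g * t * g⁻¹} : Set (G ⧸ zS S))) fun c => mem_centralizer_singleton_iff.2
          (((show Commute (c : G ⧸ zS S) t from mem_centralizer_singleton_iff.1 c.2).map
            (MulAut.conj g).toMonoidHom).eq))
      fun a b e => Subtype.ext ((MulAut.conj g).injective (congrArg Subtype.val e :))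
  have hOb : Cfsg.oddCore (G ⧸ zS S) = ⊥ :=
    oddCore_quotient_central (zS S) hc (S.2.to_le zS_le) hO
  have hVcomap : (V : Subgroup (G ⧸ zS S)).comap π = (S : Subgroup G) := by
    rw [show (V : Subgroup (G ⧸ zS S)) = (S : Subgroup G).map π from rfl, comap_map_eq,
      QuotientGroup.ker_mk', sup_eq_left.2 zS_le]
  by_cases hsol : Group.IsSolvable (G ⧸ zS S)
  · haveI := hsol
    have h1 := coreClosed_of_solvable_abelian V hVc V
    rw [hOb, bot_sup_eq, normalizer_eq_top_iff] at h1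
    rw [← hVcomap]
    exact h1.comap π
  exfalso
  obtain ⟨N, hNn, hNs, hNns, -⟩ := SylTwoAbel.exists_simple_normal V hVc hC hsol hOb
  haveI := hNn
  haveI := hNs
  obtain ⟨nb, wb, hnb, hnbN, hwb, hwbN, hne⟩ := exists_moved hNns V hVc
  -- an element fixing a nontrivial vector centralises `V`
  have hfix : ∀ v ∈ (V : Subgroup (G ⧸ zS S)), v ≠ 1 → nb * v * nb⁻¹ = v →
      ∀ u ∈ (V : Subgroup (G ⧸ zS S)), nb * u * nb⁻¹ = u := by
    intro v hv hv1 hvfix u hu
    let H : Subgroup (G ⧸ zS S) := centralizer ({u} : Set (G ⧸ zS S))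
    obtain ⟨m, rfl⟩ := QuotientGroup.mk'_surjective (zS S) nb
    have hm : m ∈ normalizer ((S : Subgroup G) : Set G) := by
      refine mem_normalizer_iff.2 fun s => ?_
      show s ∈ (S : Subgroup G) ↔ m * s * m⁻¹ ∈ (S : Subgroup G)
      rw [← hVcomap, mem_comap, mem_comap, map_mul, map_mul, map_inv]
      exact mem_normalizer_iff.1 hnb (π s)
    obtain ⟨x, hx, rfl⟩ := hv
    obtain ⟨y, hy, rfl⟩ := hu
    suffices hH : QuotientGroup.mk' (zS S) m ∈ H by
      exact mul_inv_eq_of_eq_mul (mem_centralizer_singleton_iff.1 hH)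
    obtain ⟨a, k, hk, hak⟩ := Nat.exists_eq_two_pow_mul_odd (n := orderOf m) (orderOf_pos m).ne'
    let SN := (S : Subgroup G).subgroupOf (normalizer ((S : Subgroup G) : Set G))
    have hmem : m ^ SN.index ∈ (S : Subgroup G) :=
      pow_index_mem SN (⟨m, hm⟩ : ↥(normalizer ((S : Subgroup G) : Set G)))
    have hodd : Odd SN.index := by
      rw [← Nat.not_even_iff_odd, even_iff_two_dvd]
      exact (S.subtype le_normalizer).not_dvd_index
    refine mem_of_odd_pow_of_two_pow hodd (a := a) ?_ ?_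
    · rw [← map_pow]
      exact mem_centralizer_singleton_iff.2 (hVc _ (mem_map_of_mem _ hmem) _ (mem_map_of_mem _ hy))
    -- the part of odd order
    have hm' : m ^ 2 ^ a ∈ normalizer ((S : Subgroup G) : Set G) := pow_mem hm _
    set φ : MulAut ↥(S : Subgroup G) := normalizerMonoidHom (S : Subgroup G) ⟨m ^ 2 ^ a, hm'⟩ with hφdef
    have hφ : ∀ s : ↥(S : Subgroup G), (φ s : G) = m ^ 2 ^ a * s * (m ^ 2 ^ a)⁻¹ := fun s => rfl
    have hφk : φ ^ k = 1 := by
      have e : (⟨m ^ 2 ^ a, hm'⟩ : ↥(normalizer ((S : Subgroup G) : Set G))) ^ k = 1 := Subtype.ext (by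
        show (m ^ 2 ^ a) ^ k = 1
        rw [← pow_mul, ← hak, pow_orderOf_eq_one])
      rw [hφdef, ← map_pow, e, map_one]
    have hφ1 : φ = 1 := by
      refine fix_all h φ hk hφk (fun z hz => Subtype.ext ?_) (v := ⟨x, hx⟩) (fun hxc => hv1 ?_) ?_
      · rw [hφ, mem_center_iff.1 (hc _ (mem_center_iff_zS.1 hz)) _, mul_inv_cancel_right]
      · exact (QuotientGroup.eq_one_iff x).2 (mem_center_iff_zS.1 hxc)
      · rw [mem_center_iff_zS]
        show x⁻¹ * (φ ⟨x, hx⟩ : G) ∈ zS S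
        rw [hφ, ← QuotientGroup.eq_one_iff, ← QuotientGroup.mk'_apply, map_mul, map_mul, map_mul, map_inv,
          map_inv, map_pow]
        have hcx : Commute (π m) (π x) := eq_mul_of_mul_inv_eq hvfix
        rw [(hcx.pow_left _).eq, mul_inv_cancel_right, inv_mul_cancel]
    rw [← map_pow]
    refine mem_centralizer_singleton_iff.2 ?_
    rw [← map_mul, ← map_mul]
    congr 1
    have h1 := hφ ⟨y, hy⟩
    rw [hφ1, MulAut.one_apply] at h1
    exact eq_mul_of_mul_inv_eq h1.symm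
  have hfree : ∀ v ∈ (V : Subgroup (G ⧸ zS S)), nb * v * nb⁻¹ = v → v = 1 := fun v hv e =>
    by_contra fun hv1 => hne (hfix v hv hv1 e wb hwb)
  have hconjV : ∀ v ∈ (V : Subgroup (G ⧸ zS S)), nb * v * nb⁻¹ ∈ (V : Subgroup (G ⧸ zS S)) :=
    fun v hv => (mem_normalizer_iff.1 hnb v).1 hv
  let f : ↥(V : Subgroup (G ⧸ zS S)) → ↥(V : Subgroup (G ⧸ zS S)) := fun v =>
    ⟨nb * v * nb⁻¹ * (v : G ⧸ zS S)⁻¹, mul_mem (hconjV _ v.2) (inv_mem v.2)⟩
  have hfi : Function.Injective f := by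
    intro u v e
    have e' : nb * u * nb⁻¹ * (u : G ⧸ zS S)⁻¹ = nb * v * nb⁻¹ * (v : G ⧸ zS S)⁻¹ := congrArg Subtype.val e
    refine Subtype.ext (mul_inv_eq_one.1 (hfree _ (mul_mem u.2 (inv_mem v.2)) ?_))
    have hc1 := hVc _ (inv_mem v.2) _ u.2
    calc nb * ((u : G ⧸ zS S) * (v : G ⧸ zS S)⁻¹) * nb⁻¹
        = (nb * u * nb⁻¹ * (u : G ⧸ zS S)⁻¹) * u * (nb * v * nb⁻¹)⁻¹ := by group
      _ = nb * v * nb⁻¹ * ((v : G ⧸ zS S)⁻¹ * u) * (nb * v * nb⁻¹)⁻¹ := by rw [e']; group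
      _ = (u : G ⧸ zS S) * (v : G ⧸ zS S)⁻¹ := by
        rw [hc1, hVc _ (hconjV _ v.2) _ (mul_mem u.2 (inv_mem v.2)), mul_inv_cancel_right]
  have hVN : (V : Subgroup (G ⧸ zS S)) ≤ N := by
    intro v hv
    obtain ⟨u, hu⟩ := Finite.surjective_of_injective hfi ⟨v, hv⟩
    rw [show v = nb * ((u : G ⧸ zS S) * nb⁻¹ * (u : G ⧸ zS S)⁻¹) by
      rw [← mul_assoc, ← mul_assoc]; exact (congrArg Subtype.val hu).symm]
    exact mul_mem hnbN (hNn.conj_mem _ (inv_mem hnbN) _)
  let W : Sylow 2 N := V.subtype hVN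
  have hWcard : q * q = Nat.card ↥(W : Subgroup N) := by
    have e1 : Nat.card ↥(W : Subgroup N) = Nat.card ↥(V : Subgroup (G ⧸ zS S)) :=
      Nat.card_congr (subgroupOfEquivOfLe hVN).toEquiv
    rw [e1]
    have hk : (π.domRestrict (S : Subgroup G)).ker = (zS S).subgroupOf (S : Subgroup G) := by
      rw [MonoidHom.ker_domRestrict, QuotientGroup.ker_mk']
    have h1 := ((zS S).subgroupOf (S : Subgroup G)).card_mul_index
    rw [Nat.card_congr (subgroupOfEquivOfLe zS_le).toEquiv, card_zS h, h.card, ← hk, index_ker,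
      MonoidHom.domRestrict_range] at h1
    exact Nat.eq_of_mul_eq_mul_left (show 0 < q by omega) ((by ring : q * (q * q) = q ^ 3).trans h1.symm)
  have hWc : ∀ a ∈ (W : Subgroup N), ∀ b ∈ (W : Subgroup N), a * b = b * a := fun a ha b hb =>
    Subtype.ext (hVc _ ha _ hb)
  have h3 : ¬ Cfsg.PRankLE 2 2 ↥(W : Subgroup N) := fun h2 => by
    have := h2 ⊤ ⟨⟨fun a b => Subtype.ext (Subtype.ext (hWc _ a.1.2 _ b.1.2))⟩⟩
      (fun a _ => Subtype.ext (Subtype.ext (by
        show ((a : N) : G ⧸ zS S) ^ 2 = 1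
        rw [pow_two]; exact hV2 _ a.2)))
    rw [card_top, ← hWcard] at this
    nlinarith
  have hCN : ∀ t : N, orderOf t = 2 → Group.IsSolvable ↥(centralizer ({t} : Set N)) := by
    intro t ht
    haveI := hC t (by rw [Subgroup.orderOf_coe, ht])
    exact Group.isSolvable_of_isSolvable_injective
      (f := (N.subtype.comp (centralizer ({t} : Set N)).subtype).codRestrict
        (centralizer ({(t : G ⧸ zS S)} : Set (G ⧸ zS S))) fun c => mem_centralizer_singleton_iff.2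
          (congrArg Subtype.val (mem_centralizer_singleton_iff.1 c.2)))
      fun a b e => Subtype.ext (Subtype.ext (congrArg Subtype.val e :))
  obtain ⟨F, iF, iFt, h2, ⟨e⟩⟩ := psl_of_rank_three W hWc hCN h3
  obtain ⟨x, hx⟩ := exists_noncentral h (by omega)
  obtain ⟨y, hy, hne'⟩ := exists_sq_ne h (by omega) (x * x)
  have hord : ∀ s : ↥(S : Subgroup G), s ∉ center ↥(S : Subgroup G) →
      orderOf (⟨π s, hVN (mem_map_of_mem _ s.2)⟩ : N) = 2 := fun s hs =>
    orderOf_eq_prime (Subtype.ext (by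
        show π (s : G) ^ 2 = 1
        rw [pow_two]; exact hV2 _ (mem_map_of_mem _ s.2)))
      fun e' => hs (mem_center_iff_zS.2 ((QuotientGroup.eq_one_iff _).1 (congrArg Subtype.val e')))
  have hcj := psl_isConj h2 (x := e ⟨π x, hVN (mem_map_of_mem _ x.2)⟩)
    (y := e ⟨π y, hVN (mem_map_of_mem _ y.2)⟩)
    (by rw [MulEquiv.orderOf_eq]; exact hord x hx) (by rw [MulEquiv.orderOf_eq]; exact hord y hy)
  obtain ⟨c', hc'⟩ := isConj_iff.1 hcj
  obtain ⟨c, rfl⟩ := e.surjective c'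
  rw [← map_inv, ← map_mul, ← map_mul] at hc'
  have hc2 := congrArg Subtype.val (e.injective hc')
  obtain ⟨g, hg⟩ := QuotientGroup.mk'_surjective (zS S) (c : G ⧸ zS S)
  have hc3 : π (g * x * g⁻¹) = π y := by rw [map_mul, map_mul, map_inv, hg]; exact hc2
  have hz : (g * x * g⁻¹)⁻¹ * (y : G) ∈ zS S := QuotientGroup.eq.1 hc3
  set z := (g * x * g⁻¹)⁻¹ * (y : G)
  have hy' : (y : G) = g * x * g⁻¹ * z := (mul_inv_cancel_left _ _).symm
  refine hne' (Subtype.ext ?_)
  show (y : G) * y = x * x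
  rw [hy', (show Commute z (g * x * g⁻¹) from (mem_center_iff.1 (hc z hz) _).symm).mul_mul_mul_comm,
    zS_sq h hz, mul_one, show g * x * g⁻¹ * (g * x * g⁻¹) = g * ((x : G) * x) * g⁻¹ by group,
    mem_center_iff.1 (hc _ (sq_mem_zS h x.2)) g, mul_inv_cancel_right]

end CfsgLib.UThreeSylow
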