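import Mathlib
import Cfsg.Agent.Lib.UThreeSylow.Local
import Cfsg.Agent.Lib.Tech46.CoprimeGen
import Cfsg.Agent.Lib.StrongEmbedding.Swap
import Cfsg.Agent.S0217

/-!
# Groups with Sylow 2-subgroups of the type of `PSU₃(2^n)`: some involution of the centre is not central

The cores of the centralisers generate a subgroup of odd order, whose normaliser is strongly
embedded modulo the central involutions of the Sylow centre.
-/

set_option autoImplicit false
set_option linter.style.haveILetI false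
set_option linter.unusedSectionVars false

namespace CfsgLib.UThreeSylow

open Subgroup CfsgLib.InvChar.InvolutionCores

universe u

variable {G : Type u} [Group G] [Finite G] {q : ℕ}

/-- A subgroup generated by elements of odd order whose image modulo a central 2-group has odd order
has odd order. -/
theorem odd_of_odd_map {W Z : Subgroup G} [Z.Normal] (hZ : Z ≤ center G) (hZp : IsPGroup 2 Z)
    {X : Set G} (hW : W = closure X) (hX : ∀ x ∈ X, Odd (orderOf x))
    (hodd : Odd (Nat.card (W.map (QuotientGroup.mk' Z)))) : Odd (Nat.card W) := by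
  have : Fact (Nat.Prime 2) := ⟨Nat.prime_two⟩
  have hP : IsPGroup 2 (Z.subgroupOf W) := hZp.comap_of_injective _ W.subtype_injective
  have hidx : (Z.subgroupOf W).index = Nat.card (W.map (QuotientGroup.mk' Z)) := by
    rw [← relIndex, ← relIndex_map_map_of_injective (f := MonoidHom.id G) _ _ Function.injective_id,
      map_id, map_id, relIndex]
    have hk : ((QuotientGroup.mk' Z).domRestrict W).ker = Z.subgroupOf W := by
      rw [MonoidHom.ker_domRestrict, QuotientGroup.ker_mk']
    rw [← hk, index_ker, MonoidHom.domRestrict_range]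
  have hidx2 : ¬ 2 ∣ (Z.subgroupOf W).index := by
    rw [hidx, ← even_iff_two_dvd, Nat.not_even_iff_odd]; exact hodd
  let P : Sylow 2 W := hP.toSylow hidx2
  have hPc : ∀ u ∈ (P : Subgroup W), u ∈ center W := fun u hu =>
    mem_center_iff.2 fun g => Subtype.ext (mem_center_iff.1 (hZ hu) g)
  have hle : normalizer ((P : Subgroup W) : Set W) ≤ centralizer ((P : Subgroup W) : Set W) :=
    fun g _ => mem_centralizer_iff.2 fun u hu => (mem_center_iff.1 (hPc u hu) g).symm
  have hc := MonoidHom.ker_transferSylow_isComplement' P hle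
  have hgen : ∀ x ∈ X, ∀ hxW : x ∈ W, (⟨x, hxW⟩ : W) ∈ (MonoidHom.transferSylow P hle).ker := by
    intro x hx hxW
    rw [MonoidHom.mem_ker, ← orderOf_eq_one_iff]
    obtain ⟨k, hk⟩ := P.2 (MonoidHom.transferSylow P hle ⟨x, hxW⟩)
    have h1 := orderOf_map_dvd (MonoidHom.transferSylow P hle) (⟨x, hxW⟩ : W)
    have h2 : orderOf (⟨x, hxW⟩ : W) = orderOf x := Subgroup.orderOf_mk x hxW
    rw [h2] at h1
    exact Nat.eq_one_of_dvd_coprimes ((Nat.coprime_two_left.2 (hX x hx)).pow_left k)
      (orderOf_dvd_of_pow_eq_one hk) h1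
  have htop : (MonoidHom.transferSylow P hle).ker = ⊤ := by
    revert hgen
    generalize (MonoidHom.transferSylow P hle).ker = K
    intro hgen
    have hle' : W ≤ K.map W.subtype := by
      refine hW.le.trans ((closure_le _).2 fun x hx => ?_)
      exact ⟨⟨x, hW.ge (subset_closure hx)⟩, hgen x hx _, rfl⟩
    refine eq_top_iff.2 fun w _ => ?_
    obtain ⟨k, hk, hkw⟩ := hle' w.2
    exact Subtype.ext hkw ▸ hk
  rw [htop, isComplement'_top_left] at hc
  have h1 : (Z.subgroupOf W) = ⊥ := hc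
  rw [h1, index_bot] at hidx
  rwa [hidx]

variable (S : Sylow 2 G)

/-- The hypotheses of the case. -/
structure Hyp (q : ℕ) : Prop where
  ut : UT ↥(S : Subgroup G) q
  big : 8 ≤ q
  core : Cfsg.oddCore G = ⊥
  notCentral : ∃ a ∈ zS S, a ∉ center G
  closed : ∀ a ∈ zS S, a ∉ center G → CoreClosed ↥(centralizer ({a} : Set G))
  notNormal : ¬ (S : Subgroup G).Normal

/-- The central part of `Z(S)`. -/
noncomputable def zC : Subgroup G := zS S ⊓ center G

instance zC_normal : (zC S).Normal :=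
  ⟨fun y hy g => by rwa [mem_center_iff.1 hy.2 g, mul_inv_cancel_right]⟩

/-- The subgroup generated by the cores of the centralisers of the noncentral elements. -/
noncomputable def coreGen : Subgroup G :=
  closure {x : G | ∃ a ∈ zS S, a ∉ center G ∧ x ∈ cc a}

open Classical in
/-- The subgroup that turns out to be strongly embedded. -/
noncomputable def locSub : Subgroup G :=
  if coreGen S = ⊥ then normalizer (zS S : Set G) else normalizer (coreGen S : Set G)

variable {S}

theorem zC_le_center : zC S ≤ center G := inf_le_right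

theorem zC_isPGroup : IsPGroup 2 (zC S) := S.2.to_le (inf_le_left.trans zS_le)

variable (h : Hyp S q)
include h

/-- The noncentral part of `Z(S)` is more than one coset. -/
theorem Hyp.exists_pair : ∃ a b : G, a ∈ zS S ∧ b ∈ zS S ∧ a ∉ center G ∧ b ∉ center G ∧
    a * b ∉ center G := by
  obtain ⟨a, ha, hac⟩ := h.notCentral
  by_contra hc
  push Not at hc
  have : Fact (Nat.Prime 2) := ⟨Nat.prime_two⟩
  refine hac (central_of_fixed h.ut h.core ha fun n hn => ?_)
  have hN := normalizer_le_normalizer_zS hn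
  have hna : n * a * n⁻¹ ∈ zS S := (mem_normalizer_iff.1 hN a).1 ha
  have hnac : n * a * n⁻¹ ∉ center G := fun hh => hac (by
    have := (inferInstance : (center G).Normal).conj_mem _ hh n⁻¹
    rwa [inv_inv, show n⁻¹ * (n * a * n⁻¹) * n = a by group] at this)
  have hz : a * (n * a * n⁻¹) ∈ center G := hc a (n * a * n⁻¹) ha hna hac hnac
  set z := a * (n * a * n⁻¹) with hzdef
  have hz2 : z * z = 1 := zS_sq h.ut (mul_mem ha hna)
  have haa := zS_sq h.ut ha
  have hna' : n * a * n⁻¹ = a * z := by rw [hzdef, ← mul_assoc, haa, one_mul]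
  have hit : ∀ j : ℕ, n ^ j * a * (n ^ j)⁻¹ = a * z ^ j := by
    intro j
    induction j with
    | zero => simp
    | succ j ih =>
      calc n ^ (j + 1) * a * (n ^ (j + 1))⁻¹ = n * (n ^ j * a * (n ^ j)⁻¹) * n⁻¹ := by
            rw [pow_succ']; group
        _ = (n * a * n⁻¹) * (n * z ^ j * n⁻¹) := by rw [ih]; group
        _ = a * z ^ (j + 1) := by
          rw [mem_center_iff.1 (pow_mem hz j) n, mul_inv_cancel_right, hna', mul_assoc, ← pow_succ']
  let SN := (S : Subgroup G).subgroupOf (normalizer ((S : Subgroup G) : Set G))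
  have hmem : n ^ SN.index ∈ (S : Subgroup G) := pow_index_mem SN (⟨n, hn⟩ : ↥(normalizer ((S : Subgroup G) : Set G)))
  have hodd : Odd SN.index := by
    rw [← Nat.not_even_iff_odd, even_iff_two_dvd]
    exact (S.subtype le_normalizer).not_dvd_index
  have h1 := hit SN.index
  rw [(mem_zS.1 ha).2 _ hmem, mul_inv_cancel_right, left_eq_mul] at h1
  obtain ⟨m, hm⟩ := hodd
  rw [hm, pow_succ, pow_mul, pow_two, hz2, one_pow, one_mul] at h1
  rw [hna', h1, mul_one]

theorem Hyp.normalizer_zS_ne : normalizer (zS S : Set G) ≠ ⊤ := by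
  intro htop
  haveI hEn : (zS S).Normal := normalizer_eq_top_iff.1 htop
  obtain ⟨a, ha, hac⟩ := h.notCentral
  set C := centralizer (zS S : Set G) with hCdef
  haveI : C.Normal := normal_centralizer
  have hSC : (S : Subgroup G) ≤ C := fun s hs =>
    mem_centralizer_iff.2 fun e he => ((mem_zS.1 he).2 s hs).symm
  have hCa : C ≤ centralizer ({a} : Set G) := fun g hg =>
    mem_centralizer_singleton_iff.2 (mem_centralizer_iff.1 hg a ha).symm
  have hccC : cc a ≤ C := fun k hk => mem_centralizer_iff.2 fun e he => by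
    have h1 : k * e * k⁻¹ * e⁻¹ ∈ zS S := mul_mem (hEn.conj_mem e he k) (inv_mem he)
    have h2 : k * e * k⁻¹ * e⁻¹ ∈ cc a := by
      rw [show k * e * k⁻¹ * e⁻¹ = k * (e * k⁻¹ * e⁻¹) by group]
      exact mul_mem hk (conj_mem_cc (zS_comm he ha) (inv_mem hk))
    have h3 : k * e * k⁻¹ * e⁻¹ = 1 := by
      have ho := odd_orderOf_cc h2
      have h22 := zS_sq h.ut h1
      obtain ⟨m, hm⟩ := ho
      have := pow_orderOf_eq_one (k * e * k⁻¹ * e⁻¹)
      rwa [hm, pow_succ, pow_mul, pow_two, h22, one_pow, one_mul] at this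
    rw [mul_inv_eq_one, mul_inv_eq_iff_eq_mul] at h3
    exact h3.symm
  have hbot : cc a = ⊥ := by
    let K : Subgroup C := (cc a).subgroupOf C
    haveI : K.Normal := ⟨fun u hu g =>
      conj_mem_cc (mem_centralizer_singleton_iff.1 (hCa g.2)) hu⟩
    have hK : (Nat.card K).Coprime 2 := by
      rw [Nat.card_congr (subgroupOfEquivOfLe hccC).toEquiv]
      exact Nat.coprime_two_right.2 (odd_card_cc a)
    have h1 : K.map C.subtype ≤ Cfsg.oddCore G := by
      show _ ≤ Cfsg.pPrimeCore 2 G
      have : Fact (Nat.Prime 2) := ⟨Nat.prime_two⟩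
      exact (map_mono (CfsgLib.PCore.le_pPrimeCore inferInstance hK)).trans
        (le_trans (le_of_eq (CfsgLib.PCore.map_pPrimeCore_subtype_of_normal C)) inf_le_right)
    rw [h.core, le_bot_iff, subgroupOf_map_subtype, inf_eq_left.2 hccC] at h1
    exact h1
  have hCN : C ≤ normalizer ((S : Subgroup G) : Set G) := by
    intro g hg
    have hgC : g ∈ centralizer ({a} : Set G) := hCa hg
    let T := S.subtype (le_centralizer_of_mem_zS ha)
    obtain ⟨k, hk, n, hn, hkn⟩ := mem_sup_of_normal_left.1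
      ((h.closed a ha hac T) ▸ mem_top (⟨g, hgC⟩ : ↥(centralizer ({a} : Set G))))
    have hk1 : k = 1 := by
      have : (k : G) ∈ cc a := ⟨k, hk, rfl⟩
      rw [hbot, mem_bot] at this
      exact Subtype.ext this
    rw [hk1, one_mul] at hkn
    subst hkn
    refine mem_normalizer_iff.2 fun u => ?_
    constructor
    · intro hu
      exact (mem_normalizer_iff.1 hn ⟨u, le_centralizer_of_mem_zS ha hu⟩).1 hu
    · intro hu
      have := (mem_normalizer_iff.1 (inv_mem hn)
        ⟨g * u * g⁻¹, le_centralizer_of_mem_zS ha hu⟩).1 hu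
      have e : g⁻¹ * (g * u * g⁻¹) * g⁻¹⁻¹ = u := by group
      have h2 : g⁻¹ * (g * u * g⁻¹) * g⁻¹⁻¹ ∈ (S : Subgroup G) := this
      rwa [e] at h2
  refine h.notNormal ⟨fun s hs g => ?_⟩
  have : Fact (Nat.Prime 2) := ⟨Nat.prime_two⟩
  have hp : IsPGroup 2 (zpowers (g * s * g⁻¹)) := by
    refine (S.2.map (MulAut.conj g).toMonoidHom).to_le ?_
    exact zpowers_le.2 ⟨s, hs, rfl⟩
  have h1 : g * s * g⁻¹ ∈ zpowers (g * s * g⁻¹) ⊓ normalizer ((S : Subgroup G) : Set G) :=
    ⟨mem_zpowers _, hCN ((inferInstance : C.Normal).conj_mem s (hSC hs) g)⟩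
  exact (le_of_eq (hp.inf_normalizer_sylow S) h1).2

/-- An abelian subgroup for the signalizer functor. -/
theorem Hyp.exists_functor_group : ∃ A : Subgroup G, A ≤ (S : Subgroup G) ∧ zS S ≤ A ∧
    (∀ a ∈ A, ∀ b ∈ A, a * b = b * a) ∧ (∀ a ∈ A, a * a ∈ zC S) ∧
    8 ≤ Nat.card (A.map (QuotientGroup.mk' (zC S))) := by
  by_cases hZ : zC S = ⊥
  · refine ⟨zS S, zS_le, le_rfl, fun a ha b hb => zS_comm ha hb,
      fun a ha => by rw [zS_sq h.ut ha]; exact one_mem _, ?_⟩
    have hinj : Function.Injective ((QuotientGroup.mk' (zC S)).domRestrict (zS S)) := fun u v e => by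
      have : (u : G)⁻¹ * v ∈ zC S := QuotientGroup.eq.1 e
      rw [hZ, mem_bot, inv_mul_eq_one] at this
      exact Subtype.ext this
    rw [← MonoidHom.domRestrict_range, ← Nat.card_congr (MonoidHom.ofInjective hinj).toEquiv, card_zS h.ut]
    exact h.big
  obtain ⟨z, hz, hz1⟩ := (bot_or_exists_ne_one _).resolve_left hZ
  obtain ⟨x, hxc, hxz⟩ := exists_sq h.ut (by have := h.big; omega)
    (mem_center_iff_zS.2 hz.1 : (⟨z, zS_le hz.1⟩ : ↥(S : Subgroup G)) ∈ _)
    (fun e => hz1 (congrArg Subtype.val e))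
  have hxz' : (x : G) * x = z := congrArg Subtype.val hxz
  let A := closure ((zS S : Set G) ∪ {(x : G)})
  have hcomm : IsMulCommutative A := by
    refine isMulCommutative_closure ?_
    rintro u (hu | hu) v (hv | hv)
    · exact zS_comm hu hv
    · rw [Set.mem_singleton_iff.1 hv]; exact ((mem_zS.1 hu).2 x x.2).symm
    · rw [Set.mem_singleton_iff.1 hu]; exact (mem_zS.1 hv).2 x x.2
    · rw [Set.mem_singleton_iff.1 hu, Set.mem_singleton_iff.1 hv]
  have hc : ∀ a ∈ A, ∀ b ∈ A, a * b = b * a := fun a ha b hb =>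
    congrArg Subtype.val (hcomm.is_comm.comm ⟨a, ha⟩ ⟨b, hb⟩)
  refine ⟨A, (closure_le _).2 (Set.union_subset zS_le (Set.singleton_subset_iff.2 x.2)),
    fun u hu => subset_closure (Or.inl hu), hc, fun a ha => ?_, ?_⟩
  · induction ha using closure_induction with
    | mem u hu =>
      rcases hu with hu | hu
      · rw [zS_sq h.ut hu]; exact one_mem _
      · rw [Set.mem_singleton_iff.1 hu, hxz']; exact hz
    | one => rw [one_mul]; exact one_mem _
    | mul a b ha hb i1 i2 =>
      rw [(show Commute b a from hc b hb a ha).mul_mul_mul_comm]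
      exact mul_mem i1 i2
    | inv a ha i1 => rw [← mul_inv_rev]; exact inv_mem i1
  · set π := QuotientGroup.mk' (zC S)
    have hlt : (zS S).map π < A.map π := by
      refine lt_of_le_of_ne (map_mono fun u hu => subset_closure (Or.inl hu)) fun e => hxc ?_
      have hx : π (x : G) ∈ A.map π := mem_map_of_mem _ (subset_closure (Or.inr rfl))
      rw [← e] at hx
      obtain ⟨w, hw, hwx⟩ := hx
      have h1 : w⁻¹ * (x : G) ∈ zC S := QuotientGroup.eq.1 hwx
      refine mem_center_iff_zS.2 ?_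
      have h2 := mul_mem hw h1.1
      rwa [mul_inv_cancel_left] at h2
    have h4 : 4 ≤ Nat.card ((zS S).map π) := by
      obtain ⟨a, b, ha, hb, hac, hbc, habc⟩ := h.exists_pair
      have hne : ∀ u v : G, u ∈ zS S → u⁻¹ * v ∉ center G → π u ≠ π v := fun u v _ hnc e =>
        hnc (QuotientGroup.eq.1 e : u⁻¹ * v ∈ zC S).2
      let f : Fin 4 → ↥((zS S).map π) := ![⟨π 1, mem_map_of_mem _ (one_mem _)⟩,
        ⟨π a, mem_map_of_mem _ ha⟩, ⟨π b, mem_map_of_mem _ hb⟩, ⟨π (a * b), mem_map_of_mem _ (mul_mem ha hb)⟩]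
      have hai : a⁻¹ = a := inv_eq_of_mul_eq_one_right (zS_sq h.ut ha)
      have hbi : b⁻¹ = b := inv_eq_of_mul_eq_one_right (zS_sq h.ut hb)
      have e1 := hne 1 a (one_mem _) (by rwa [inv_one, one_mul])
      have e2 := hne 1 b (one_mem _) (by rwa [inv_one, one_mul])
      have e3 := hne 1 (a * b) (one_mem _) (by rwa [inv_one, one_mul])
      have e4 := hne a b ha (by rwa [hai])
      have e5 := hne a (a * b) ha (by rwa [inv_mul_cancel_left])
      have e6 := hne b (a * b) hb (by rwa [zS_comm ha hb, inv_mul_cancel_left])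
      have hf : Function.Injective f := by
        intro i j e
        have e' := congrArg Subtype.val e
        fin_cases i <;> fin_cases j <;> simp [f] at e' ⊢
        all_goals first
          | exact e1 e' | exact e1 e'.symm | exact e2 e' | exact e2 e'.symm | exact e3 e' | exact e3 e'.symm
          | exact e4 e' | exact e4 e'.symm | exact e5 e' | exact e5 e'.symm | exact e6 e' | exact e6 e'.symm
      simpa using Nat.card_le_card_of_injective f hf
    obtain ⟨c, hc'⟩ := card_dvd_of_le hlt.le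
    have hlt' : Nat.card ((zS S).map π) < Nat.card (A.map π) :=
      lt_of_not_ge fun hh => hlt.ne (eq_of_le_of_card_ge hlt.le hh)
    rw [hc'] at hlt' ⊢
    have : 2 ≤ c := by
      by_contra hcc
      interval_cases c <;> simp at hlt'
    nlinarith

theorem Hyp.solvable_centralizer {g : G} (hgS : g ∈ (S : Subgroup G)) (hgc : g ∉ center G) :
    Group.IsSolvable ↥(centralizer ({g} : Set G)) := by
  by_cases hg2 : g * g = 1
  · exact solvable_of_coreClosed (h.closed g (mem_zS_of_sq h.ut hgS hg2) hgc)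
  · exact (coreClosed_centralizer h.ut hg2 hgS).2

/-- The cores generate a subgroup of odd order. -/
theorem Hyp.odd_coreGen : Odd (Nat.card (coreGen S)) := by
  have : Fact (Nat.Prime 2) := ⟨Nat.prime_two⟩
  obtain ⟨A, hAS, hEA, hAc, hAsq, hA8⟩ := h.exists_functor_group
  set π := QuotientGroup.mk' (zC S) with hπ
  let θ : G ⧸ zC S → Subgroup (G ⧸ zC S) := fun b => (cc (Quotient.out b)).map π
  have hθ : ∀ g : G, θ (π g) = (cc g).map π := fun g => by
    obtain ⟨z, hz⟩ := QuotientGroup.mk_out_eq_mul (zC S) g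
    have hce : centralizer ({g * (z : G)} : Set G) = centralizer ({g} : Set G) :=
      centralizer_mul_central (zC_le_center z.2)
    show (cc (Quotient.out (g : G ⧸ zC S))).map π = _
    rw [hz, le_antisymm (cc_le_of_centralizer_eq hce) (cc_le_of_centralizer_eq hce.symm)]
  have hnc : ∀ g ∈ A, π g ≠ 1 → g ∉ center G := fun g hg hg1 hc => hg1 ((QuotientGroup.eq_one_iff g).2
    ⟨mem_zS_of_sq h.ut (hAS hg) (by
      by_contra hg2
      have hgE : g ∈ zS S := mem_zS.2 ⟨hAS hg, fun s _ => mem_center_iff.1 hc s⟩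
      exact hg2 (zS_sq h.ut hgE)), hc⟩)
  have hsolv : ∀ g ∈ A, π g ≠ 1 → Group.IsSolvable ↥(centralizer ({g} : Set G)) := fun g hg hg1 =>
    h.solvable_centralizer (hAS hg) (hnc g hg hg1)
  have hres := Cfsg.Agent.S0217.result (p := 2) (A.map π)
    (by rintro _ ⟨a, ha, rfl⟩ _ ⟨b, hb, rfl⟩; rw [← map_mul, ← map_mul, hAc a ha b hb])
    (by rintro _ ⟨a, ha, rfl⟩; rw [← map_pow, pow_two]; exact (QuotientGroup.eq_one_iff _).2 (hAsq a ha))
    (by simpa using hA8) θ ?_ ?_ ?_ ?_ ?_
  · refine odd_of_odd_map (zC_le_center (S := S)) (zC_isPGroup (S := S)) rfl ?_ ?_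
    · rintro x ⟨a, -, -, hx⟩; exact odd_orderOf_cc hx
    · rw [← Nat.not_even_iff_odd, even_iff_two_dvd]
      refine fun hd => hres.1 (hd.trans (card_dvd_of_le ?_))
      rw [coreGen, map_le_iff_le_comap, closure_le]
      rintro x ⟨a, ha, hac, hx⟩
      have hne : π a ≠ 1 := fun e => hac ((QuotientGroup.eq_one_iff a).1 e).2
      refine le_iSup (fun b : {b : G ⧸ zC S // b ∈ A.map π ∧ b ≠ 1} => θ b)
        ⟨π a, mem_map_of_mem _ (hEA ha), hne⟩ ?_
      rw [hθ]
      exact mem_map_of_mem _ hx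
  · rintro _ ⟨g, hg, rfl⟩ -
    rw [hθ]
    rintro _ ⟨y, hy, rfl⟩
    exact mem_centralizer_singleton_iff.2 ((commute_of_mem_cc hy).map π).eq
  · rintro _ ⟨g, hg, rfl⟩ -
    rw [hθ]
    intro hd
    exact Nat.not_even_iff_odd.2 (odd_card_cc g) (even_iff_two_dvd.2 (hd.trans (card_map_dvd _ _)))
  · rintro _ ⟨g, hg, rfl⟩ - _ ⟨b, hb, rfl⟩ y hy
    rw [hθ] at hy ⊢
    obtain ⟨y, hy, rfl⟩ := hy
    exact ⟨b * y * b⁻¹, conj_mem_cc (hAc b hb g hg) hy, by rw [map_mul, map_mul, map_inv]⟩
  · rintro _ ⟨g, hg, rfl⟩ -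
    rw [hθ]
    haveI : Group.IsSolvable (cc g) := @CfsgLib.PF.oddSolvable.{u} _ _ _ (odd_card_cc g)
    exact Group.isSolvable_of_surjective (MonoidHom.subgroupMap_surjective π _)
  · rintro _ ⟨g, hg, rfl⟩ - _ ⟨b, hb, rfl⟩ hb1 y hy
    obtain ⟨hy, hyb⟩ := hy
    rw [hθ] at hy ⊢
    obtain ⟨y, hy, rfl⟩ := hy
    refine ⟨y, ?_, rfl⟩
    have hz : y⁻¹ * (b * y * b⁻¹) ∈ zC S := by
      rw [← QuotientGroup.eq_one_iff, ← QuotientGroup.mk'_apply, map_mul, map_mul, map_mul, map_inv,
        map_inv]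
      show (π y)⁻¹ * (π b * π y * (π b)⁻¹) = 1
      rw [← mem_centralizer_singleton_iff.1 hyb]
      group
    have hy1 : b * y * b⁻¹ = y := by
      set z := y⁻¹ * (b * y * b⁻¹) with hzdef
      have h1 : b * y * b⁻¹ = y * z := by rw [hzdef, mul_inv_cancel_left]
      have hzy : Commute y z := mem_center_iff.1 hz.2 y
      obtain ⟨m, hm⟩ := odd_orderOf_cc hy
      have h2 : (y * z) ^ orderOf y = 1 := by rw [← h1, conj_pow, pow_orderOf_eq_one]; group
      rw [hzy.mul_pow, pow_orderOf_eq_one, one_mul, hm, pow_succ, pow_mul, pow_two,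
        zS_sq h.ut hz.1, one_pow, one_mul] at h2
      rw [h1, h2, mul_one]
    have hcom : Commute y b := by
      rw [mul_inv_eq_iff_eq_mul] at hy1
      exact hy1.symm
    haveI := hsolv b hb hb1
    refine balance_two (ThreeOrders.isPConstrained_of_solvable _) ?_ (hAc b hb g hg) hy hcom
    exact S.2.to_le (zpowers_le.2 (hAS hg))

theorem Hyp.locSub_ne_top : locSub S ≠ ⊤ := by
  unfold locSub
  split_ifs with hW
  · exact h.normalizer_zS_ne
  · intro htop
    refine hW (le_bot_iff.1 (h.core ▸ le_sSup ⟨normalizer_eq_top_iff.1 htop, ?_⟩))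
    exact Nat.coprime_two_right.2 h.odd_coreGen

theorem Hyp.normalizer_zS_le : normalizer (zS S : Set G) ≤ locSub S := by
  unfold locSub
  split_ifs with hW
  · exact le_rfl
  · refine le_normalizer_iff.2 fun n hn x hx => ?_
    induction hx using closure_induction with
    | mem x hx =>
      obtain ⟨a, ha, hac, hx⟩ := hx
      refine subset_closure ⟨n * a * n⁻¹, (mem_normalizer_iff.1 hn a).1 ha, fun hh => hac ?_, cc_conj n hx⟩
      have := (inferInstance : (center G).Normal).conj_mem _ hh n⁻¹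
      rwa [inv_inv, show n⁻¹ * (n * a * n⁻¹) * n = a by group] at this
    | one => rw [mul_one, mul_inv_cancel]; exact one_mem _
    | mul a b _ _ i1 i2 =>
      rw [show n * (a * b) * n⁻¹ = n * a * n⁻¹ * (n * b * n⁻¹) by group]
      exact mul_mem i1 i2
    | inv a _ i1 =>
      rw [show n * a⁻¹ * n⁻¹ = (n * a * n⁻¹)⁻¹ by group]
      exact inv_mem i1

theorem Hyp.sylow_le : (S : Subgroup G) ≤ locSub S :=
  (sylow_le_normalizer_zS h.ut).trans h.normalizer_zS_le

theorem Hyp.centralizer_le {a : G} (ha : a ∈ zS S) (hac : a ∉ center G) :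
    centralizer ({a} : Set G) ≤ locSub S := by
  intro g hg
  let T := S.subtype (le_centralizer_of_mem_zS ha)
  obtain ⟨k, hk, n, hn, hkn⟩ := mem_sup_of_normal_left.1
    ((h.closed a ha hac T) ▸ mem_top (⟨g, hg⟩ : ↥(centralizer ({a} : Set G))))
  rw [show g = (k : G) * n from (congrArg Subtype.val hkn).symm]
  refine mul_mem ?_ (h.normalizer_zS_le (normalizer_le_normalizer_zS ?_))
  · have hkW : (k : G) ∈ coreGen S := subset_closure ⟨a, ha, hac, k, hk, rfl⟩
    unfold locSub
    split_ifs with hW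
    · rw [hW, mem_bot] at hkW
      rw [hkW]; exact one_mem _
    · exact le_normalizer hkW
  · refine mem_normalizer_iff.2 fun u => ?_
    constructor
    · intro hu
      exact (mem_normalizer_iff.1 hn ⟨u, le_centralizer_of_mem_zS ha hu⟩).1 hu
    · intro hu
      have h2 : (n : G)⁻¹ * ((n : G) * u * (n : G)⁻¹) * (n : G)⁻¹⁻¹ ∈ (S : Subgroup G) :=
        (mem_normalizer_iff.1 (inv_mem hn) ⟨(n : G) * u * (n : G)⁻¹, le_centralizer_of_mem_zS ha hu⟩).1 hu
      rwa [show (n : G)⁻¹ * ((n : G) * u * (n : G)⁻¹) * (n : G)⁻¹⁻¹ = u by group] at h2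

theorem Hyp.centralizer_four_le {x : G} (hxS : x ∈ (S : Subgroup G)) (hx2 : x * x ≠ 1) :
    centralizer ({x} : Set G) ≤ locSub S := by
  have : Fact (Nat.Prime 2) := ⟨Nat.prime_two⟩
  obtain ⟨T, hT, -, -⟩ := allSq_centralizer h.ut hx2 hxS
  intro g hg
  obtain ⟨k, hk, n, hn, hkn⟩ := mem_sup_of_normal_left.1
    (((coreClosed_centralizer h.ut hx2 hxS).1 T) ▸ mem_top (⟨g, hg⟩ : ↥(centralizer ({x} : Set G))))
  rw [show g = (k : G) * n from (congrArg Subtype.val hkn).symm]
  have hEC : zS S ≤ centralizer ({x} : Set G) := fun e he =>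
    mem_centralizer_singleton_iff.2 ((mem_zS.1 he).2 x hxS).symm
  refine mul_mem ?_ (h.normalizer_zS_le ?_)
  · have hk' : (k : G) ∈ cc x := ⟨k, hk, rfl⟩
    obtain ⟨a, b, ha, hb, hac, hbc, habc⟩ := h.exists_pair
    let B := closure ({a, b} : Set G)
    have hBE : B ≤ zS S := (closure_le _).2 (Set.insert_subset_iff.2 ⟨ha, Set.singleton_subset_iff.2 hb⟩)
    have hBmem : ∀ u ∈ B, u = 1 ∨ u = a ∨ u = b ∨ u = a * b := by
      have haa := zS_sq h.ut ha
      have hbb := zS_sq h.ut hb
      have hab := zS_comm ha hb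
      have hca : ∀ u : G, u = 1 ∨ u = a ∨ u = b ∨ u = a * b → a * u = 1 ∨ a * u = a ∨ a * u = b ∨ a * u = a * b := by
        rintro u (rfl | rfl | rfl | rfl)
        · simp
        · simp [haa]
        · simp
        · simp [← mul_assoc, haa]
      have hcb : ∀ u : G, u = 1 ∨ u = a ∨ u = b ∨ u = a * b → b * u = 1 ∨ b * u = a ∨ b * u = b ∨ b * u = a * b := by
        rintro u (rfl | rfl | rfl | rfl)
        · simp
        · simp [← hab]
        · simp [hbb]
        · rw [← mul_assoc, ← hab, mul_assoc, hbb, mul_one]; simp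
      intro u hu
      induction hu using closure_induction_left with
      | one => simp
      | mul_left v hv w _ ihw =>
        rcases hv with rfl | rfl
        · exact hca w ihw
        · exact hcb w ihw
      | inv_mul_cancel v hv w _ ihw =>
        rcases hv with rfl | rfl
        · rw [inv_eq_of_mul_eq_one_right haa]; exact hca w ihw
        · rw [inv_eq_of_mul_eq_one_right hbb]; exact hcb w ihw
    refine Tech46.le_of_centralizers_corank_one (p := 2)
      (Signalizer.isElementaryAbelian_of_le (zS_elementary h.ut) hBE) (cc x) (locSub S) ?_ ?_ ?_ hk'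
    · rw [← even_iff_two_dvd]; exact Nat.not_even_iff_odd.2 (odd_card_cc x)
    · refine le_normalizer_iff.2 fun e he y hy => conj_mem_cc ?_ hy
      exact ((mem_zS.1 (hBE he)).2 x hxS).symm
    · intro B' hB' hcard
      have hne : B' ≠ ⊥ := by
        rintro rfl
        rw [card_bot, mul_one] at hcard
        have h3 : 3 ≤ Nat.card B := by
          let f : Fin 3 → B := ![1, ⟨a, subset_closure (Or.inl rfl)⟩, ⟨b, subset_closure (Or.inr rfl)⟩]
          have hf : Function.Injective f := by
            intro i j e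
            have e' := congrArg Subtype.val e
            fin_cases i <;> fin_cases j <;> simp [f] at e' ⊢
            all_goals first
              | exact hac (e' ▸ one_mem _) | exact hac (e'.symm ▸ one_mem _)
              | exact hbc (e' ▸ one_mem _) | exact hbc (e'.symm ▸ one_mem _)
              | (refine habc ?_; subst e'; rw [zS_sq h.ut hb]; exact one_mem _)
              | (refine habc ?_; subst e'; rw [zS_sq h.ut ha]; exact one_mem _)
          simpa using Nat.card_le_card_of_injective f hf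
        omega
      obtain ⟨c, hc, hc1⟩ := (bot_or_exists_ne_one B').resolve_left hne
      have hcc : c ∉ center G := by
        rcases hBmem c (hB' hc) with rfl | rfl | rfl | rfl
        · exact absurd rfl hc1
        · exact hac
        · exact hbc
        · exact habc
      refine le_trans (inf_le_right.trans ?_) (h.centralizer_le (hBE (hB' hc)) hcc)
      exact Subgroup.centralizer_le (Set.singleton_subset_iff.2 hc)
  · refine mem_normalizer_iff.2 fun e => ?_
    have hmap : ∀ n ∈ normalizer ((T : Subgroup ↥(centralizer ({x} : Set G))) : Set ↥(centralizer ({x} : Set G))),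
        ∀ e ∈ zS S, (n : G) * e * (n : G)⁻¹ ∈ zS S := by
      intro n hn e he
      have he' : (⟨e, hEC he⟩ : ↥(centralizer ({x} : Set G))) ∈ (T : Subgroup ↥(centralizer ({x} : Set G))) := by
        rw [hT]; exact zS_le he
      have h1 := (mem_normalizer_iff.1 hn _).1 he'
      replace h1 : n * ⟨e, hEC he⟩ * n⁻¹ ∈ (T : Subgroup ↥(centralizer ({x} : Set G))) := h1
      rw [hT] at h1
      refine mem_zS_of_sq h.ut h1 ?_
      rw [show (n : G) * e * (n : G)⁻¹ * ((n : G) * e * (n : G)⁻¹) = (n : G) * (e * e) * (n : G)⁻¹ by group,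
        zS_sq h.ut he]
      group
    refine ⟨hmap n hn e, fun he => ?_⟩
    have h1 := hmap n⁻¹ (inv_mem hn) _ he
    rwa [Subgroup.coe_inv, inv_inv, show (n : G)⁻¹ * ((n : G) * e * (n : G)⁻¹) * n = e by group] at h1

/-- Fusion of elements with central square stays inside. -/
theorem Hyp.mem_of_fused {u v g : G} (hu : u ∈ (S : Subgroup G)) (hv : v ∈ (S : Subgroup G))
    (huc : u ∉ center G) (hg : g * v * g⁻¹ = u) : g ∈ locSub S := by
  have : Fact (Nat.Prime 2) := ⟨Nat.prime_two⟩
  by_cases hu2 : u * u = 1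
  · have hv2 : v * v = 1 := by
      have h1 : g * (v * v) * g⁻¹ = 1 := by
        rw [show g * (v * v) * g⁻¹ = g * v * g⁻¹ * (g * v * g⁻¹) by group, hg, hu2]
      rwa [mul_inv_eq_one, mul_eq_left] at h1
    obtain ⟨n, hn, he⟩ := fusion_zS (mem_zS_of_sq h.ut hv hv2) (by rw [hg]; exact mem_zS_of_sq h.ut hu hu2)
    have h1 : g * n⁻¹ ∈ centralizer ({u} : Set G) := by
      refine mem_centralizer_singleton_iff.2 ?_
      rw [← hg]
      conv_lhs => rw [← he]
      group
    have h2 := mul_mem (h.centralizer_le (mem_zS_of_sq h.ut hu hu2) huc h1)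
      (h.normalizer_zS_le (normalizer_le_normalizer_zS hn))
    rwa [inv_mul_cancel_right] at h2
  obtain ⟨T, hT, -, -⟩ := allSq_centralizer h.ut hu2 hu
  let C := centralizer ({u} : Set G)
  let R : Subgroup C := (S : Subgroup G).comap ((MulAut.conj g⁻¹).toMonoidHom.comp C.subtype)
  have hRp : IsPGroup 2 R := S.2.comap_of_injective _
    (fun a b e => Subtype.ext ((MulAut.conj g⁻¹).injective e))
  obtain ⟨P, hP⟩ := hRp.exists_le_sylow
  obtain ⟨c, hc⟩ := MulAction.exists_smul_eq C P T
  have hmap : ∀ e ∈ zS S, (c : G) * g * e * ((c : G) * g)⁻¹ ∈ zS S := by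
    intro e he
    have hgeC : g * e * g⁻¹ ∈ C := mem_centralizer_singleton_iff.2 (by
      rw [← hg, show g * e * g⁻¹ * (g * v * g⁻¹) = g * (e * v) * g⁻¹ by group, ← (mem_zS.1 he).2 v hv]
      group)
    have hmR : (⟨g * e * g⁻¹, hgeC⟩ : C) ∈ R := by
      show g⁻¹ * (g * e * g⁻¹) * g⁻¹⁻¹ ∈ (S : Subgroup G)
      rw [show g⁻¹ * (g * e * g⁻¹) * g⁻¹⁻¹ = e by group]
      exact zS_le he
    have h1 : c * ⟨g * e * g⁻¹, hgeC⟩ * c⁻¹ ∈ (T : Subgroup C) := by
      rw [← hc, Sylow.coe_subgroup_smul]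
      exact ⟨_, hP hmR, rfl⟩
    rw [hT] at h1
    have h1' : (c : G) * (g * e * g⁻¹) * (c : G)⁻¹ ∈ (S : Subgroup G) := h1
    rw [show (c : G) * (g * e * g⁻¹) * (c : G)⁻¹ = (c : G) * g * e * ((c : G) * g)⁻¹ by group] at h1'
    refine mem_zS_of_sq h.ut h1' ?_
    rw [show (c : G) * g * e * ((c : G) * g)⁻¹ * ((c : G) * g * e * ((c : G) * g)⁻¹) =
      (c : G) * g * (e * e) * ((c : G) * g)⁻¹ by group, zS_sq h.ut he]
    group
  have hcg : (c : G) * g ∈ normalizer (zS S : Set G) := by
    have hfin : Function.Surjective (fun e : zS S => (⟨_, hmap e e.2⟩ : zS S)) :=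
      Finite.surjective_of_injective fun a b e => Subtype.ext
        (mul_left_cancel (mul_right_cancel (congrArg Subtype.val e)))
    refine mem_normalizer_iff.2 fun e => ⟨hmap e, fun he => ?_⟩
    obtain ⟨w, hw⟩ := hfin ⟨_, he⟩
    rw [← mul_left_cancel (mul_right_cancel (congrArg Subtype.val hw))]
    exact w.2
  have h2 := mul_mem (inv_mem (h.centralizer_four_le hu hu2 c.2)) (h.normalizer_zS_le hcg)
  rwa [inv_mul_cancel_left] at h2

/-- The intersection with a conjugate has no noncentral element with central square. -/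
theorem Hyp.mem_of_inter {g t : G} (ht : t ∈ locSub S) (ht' : g⁻¹ * t * g ∈ locSub S)
    (ht2 : t * t ∈ zC S) (htc : t ∉ center G) : g ∈ locSub S := by
  have : Fact (Nat.Prime 2) := ⟨Nat.prime_two⟩
  set M := locSub S
  have conj : ∀ w ∈ M, w * w ∈ zC S → ∃ m ∈ M, m * w * m⁻¹ ∈ (S : Subgroup G) := by
    intro w hw hw2
    have hp : IsPGroup 2 (zpowers (⟨w, hw⟩ : M)) := by
      intro y
      obtain ⟨j, hj⟩ := mem_zpowers_iff.1 y.2
      refine ⟨2, Subtype.ext ?_⟩
      show (y : M) ^ 2 ^ 2 = 1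
      have h4 : (⟨w, hw⟩ : M) ^ 4 = 1 := Subtype.ext (by
        show w ^ 4 = 1
        rw [show (4 : ℕ) = 2 * 2 from rfl, pow_mul, pow_two, pow_two]
        exact zS_sq h.ut hw2.1)
      rw [← hj, show (2 : ℕ) ^ 2 = 4 from rfl, ← zpow_natCast, ← zpow_mul, mul_comm, zpow_mul, zpow_natCast,
        h4, one_zpow]
    obtain ⟨P, hP⟩ := hp.exists_le_sylow
    obtain ⟨m, hm⟩ := MulAction.exists_smul_eq M P (S.subtype h.sylow_le)
    refine ⟨m, m.2, ?_⟩
    have h1 : m * ⟨w, hw⟩ * m⁻¹ ∈ ((S.subtype h.sylow_le : Sylow 2 M) : Subgroup M) := by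
      rw [← hm, Sylow.coe_subgroup_smul]
      exact ⟨_, hP (mem_zpowers _), rfl⟩
    exact h1
  obtain ⟨m, hm, hu⟩ := conj t ht ht2
  obtain ⟨m', hm', hv⟩ := conj (g⁻¹ * t * g) ht' (by
    rw [show g⁻¹ * t * g * (g⁻¹ * t * g) = g⁻¹ * (t * t) * g⁻¹⁻¹ by group]
    exact (inferInstance : (zC S).Normal).conj_mem _ ht2 _)
  have huc : m * t * m⁻¹ ∉ center G := fun hh => htc (by
    have := (inferInstance : (center G).Normal).conj_mem _ hh m⁻¹
    rwa [inv_inv, show m⁻¹ * (m * t * m⁻¹) * m = t by group] at this)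
  have hkey := h.mem_of_fused hu hv huc (g := m * g * m'⁻¹) (by group)
  have h2 := mul_mem (mul_mem (inv_mem hm) hkey) hm'
  rwa [show m⁻¹ * (m * g * m'⁻¹) * m' = g by group] at h2

/-- Modulo the central part, the subgroup is strongly embedded. -/
theorem Hyp.stronglyEmbedded :
    Cfsg.IsStronglyEmbedded ((locSub S).map (QuotientGroup.mk' (zC S))) := by
  have : Fact (Nat.Prime 2) := ⟨Nat.prime_two⟩
  set π := QuotientGroup.mk' (zC S)
  have hZM : zC S ≤ locSub S := inf_le_left.trans (zS_le.trans h.sylow_le)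
  have hcomap : ((locSub S).map π).comap π = locSub S := by
    rw [comap_map_eq, QuotientGroup.ker_mk', sup_eq_left.2 hZM]
  refine ⟨fun e => h.locSub_ne_top (by rw [← hcomap, e, comap_top]), ?_, fun g hg => ?_⟩
  · obtain ⟨a, ha, hac⟩ := h.notCentral
    have hao : orderOf (π a) = 2 := orderOf_eq_prime
      (by rw [← map_pow, pow_two, zS_sq h.ut ha, map_one])
      (fun e => hac ((QuotientGroup.eq_one_iff a).1 e).2)
    rw [even_iff_two_dvd, ← hao]
    exact orderOf_dvd_natCard _ (mem_map_of_mem _ (h.sylow_le (zS_le ha)))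
  · rw [← Nat.not_even_iff_odd, even_iff_two_dvd]
    intro hd
    obtain ⟨y, hy⟩ := exists_prime_orderOf_dvd_card' 2 hd
    rw [← Subgroup.orderOf_coe] at hy
    obtain ⟨g, rfl⟩ := QuotientGroup.mk'_surjective (zC S) g
    obtain ⟨t, ht, hty⟩ := y.2.1
    obtain ⟨w, ⟨s, hs, rfl⟩, hwy⟩ := y.2.2
    have hts : π (g⁻¹ * t * g) = π s := by
      have hwy' : π g * π s * (π g)⁻¹ = π t := hwy.trans hty.symm
      rw [map_mul, map_mul, map_inv, ← hwy']
      group
    refine hg (mem_map_of_mem _ (h.mem_of_inter ht ?_ ?_ ?_))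
    · rw [← hcomap, mem_comap, hts]
      exact mem_map_of_mem _ hs
    · rw [← QuotientGroup.eq_one_iff, ← QuotientGroup.mk'_apply, map_mul, hty, ← pow_two, ← hy,
        pow_orderOf_eq_one]
    · intro htc
      have hts' : t ∈ zS S := by
        -- a central 2-element lies in every Sylow 2-subgroup
        have ht2 : t * t ∈ zC S := by
          rw [← QuotientGroup.eq_one_iff, ← QuotientGroup.mk'_apply, map_mul, hty, ← pow_two, ← hy,
            pow_orderOf_eq_one]
        have hp : IsPGroup 2 (zpowers t) := by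
          intro z
          obtain ⟨j, hj⟩ := mem_zpowers_iff.1 z.2
          refine ⟨2, Subtype.ext ?_⟩
          show (z : G) ^ 2 ^ 2 = 1
          have h4 : t ^ 4 = 1 := by
            rw [show (4 : ℕ) = 2 * 2 from rfl, pow_mul, pow_two, pow_two]
            exact zS_sq h.ut ht2.1
          rw [← hj, show (2 : ℕ) ^ 2 = 4 from rfl, ← zpow_natCast, ← zpow_mul, mul_comm, zpow_mul,
            zpow_natCast, h4, one_zpow]
        have hn : t ∈ zpowers t ⊓ normalizer ((S : Subgroup G) : Set G) :=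
          ⟨mem_zpowers t, mem_normalizer_iff.2 fun u => by
            rw [← mem_center_iff.1 htc u, mul_inv_cancel_right]⟩
        exact mem_zS.2 ⟨(le_of_eq (hp.inf_normalizer_sylow S) hn).2, fun s' _ => mem_center_iff.1 htc s'⟩
      have : π t = 1 := (QuotientGroup.eq_one_iff t).2 ⟨hts', htc⟩
      rw [← hty, this, orderOf_one] at hy
      exact absurd hy (by norm_num)

/-- No noncentral case with a nontrivial central part. -/
theorem Hyp.zC_eq_bot : zC S = ⊥ := by
  by_contra hne
  have : Fact (Nat.Prime 2) := ⟨Nat.prime_two⟩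
  obtain ⟨z, hz, hz1⟩ := (bot_or_exists_ne_one _).resolve_left hne
  obtain ⟨x, hxc, hxz⟩ := exists_sq h.ut (by have := h.big; omega)
    (mem_center_iff_zS.2 hz.1 : (⟨z, zS_le hz.1⟩ : ↥(S : Subgroup G)) ∈ _)
    (fun e => hz1 (congrArg Subtype.val e))
  have hxz' : (x : G) * x = z := congrArg Subtype.val hxz
  obtain ⟨a, ha, hac⟩ := h.notCentral
  set π := QuotientGroup.mk' (zC S)
  have hao : orderOf (π a) = 2 := orderOf_eq_prime
    (by rw [← map_pow, pow_two, zS_sq h.ut ha, map_one])
    (fun e => hac ((QuotientGroup.eq_one_iff a).1 e).2)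
  have hxo : orderOf (π x) = 2 := orderOf_eq_prime
    (by rw [← map_pow, pow_two, hxz']; exact (QuotientGroup.eq_one_iff z).2 hz)
    (fun e => hxc (mem_center_iff_zS.2 ((QuotientGroup.eq_one_iff _).1 e).1))
  obtain ⟨c, hc⟩ := isConj_iff.1 (StrongEmbedding.isConj_involutions h.stronglyEmbedded hao hxo)
  obtain ⟨c, rfl⟩ := QuotientGroup.mk'_surjective (zC S) c
  rw [← map_inv, ← map_mul, ← map_mul] at hc
  have hw : (c * a * c⁻¹)⁻¹ * (x : G) ∈ zC S := QuotientGroup.eq.1 hc
  set w := (c * a * c⁻¹)⁻¹ * (x : G)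
  have hx : (x : G) = c * a * c⁻¹ * w := (mul_inv_cancel_left _ _).symm
  apply hz1
  rw [← hxz', hx, (show Commute w (c * a * c⁻¹) from (mem_center_iff.1 hw.2 _).symm).mul_mul_mul_comm,
    zS_sq h.ut hw.1, show c * a * c⁻¹ * (c * a * c⁻¹) = c * (a * a) * c⁻¹ by group, zS_sq h.ut ha]
  group

end CfsgLib.UThreeSylow
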