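import Mathlib
import Cfsg.Agent.Lib.UThreeSylow.Noncentral
import Cfsg.Agent.Lib.UThreeSylow.Central
import Cfsg.Agent.Lib.BenderQ.Classify
import Cfsg.Agent.Lib.BenderQ.Bender
import Cfsg.Agent.Lib.RankOneRecog.Class
import Cfsg.Agent.Lib.DimThreeSub.Models
import Cfsg.Agent.Lib.SuzukiGroup.SylowAut
import Cfsg.Agent.Lib.InvChar.SylowThree
import Cfsg.Agent.Lib.HallHigman.PLength

/-!
# Groups with Sylow 2-subgroups of the type of `PSU₃(2^n)`, `n ≥ 3`
-/

set_option autoImplicit false
set_option linter.style.haveILetI false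
set_option linter.unusedSectionVars false

namespace CfsgLib.UThreeSylow

open Subgroup

universe u v

/-- Either closed over the core or `PSU₃(q)` with odd index over the core. -/
def Concl (G : Type u) [Group G] (F : Type v) [Field F] [Fintype F] (q : ℕ) : Prop :=
  CoreClosed G ∨ ∃ N : Subgroup (G ⧸ Cfsg.oddCore G), N.Normal ∧ Odd N.index ∧
    Nonempty (↥N ≃* Cfsg.PSU 3 F q)

theorem even_q {q n : ℕ} (hn : 1 ≤ n) (hq : q = 2 ^ n) : Even q :=
  hq ▸ Nat.even_pow.2 ⟨even_two, by omega⟩

variable {F : Type v} [Field F] [Fintype F] {q n : ℕ}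

theorem ut_psu (hn : 1 ≤ n) (hq : q = 2 ^ n) (hF : Fintype.card F = q ^ 2)
    (P : Sylow 2 (Cfsg.PSU 3 F q)) : UT ↥(P : Subgroup (Cfsg.PSU 3 F q)) q := by
  let _ := InvCharThree.hermGroup hF (even_q hn hq)
  obtain ⟨e⟩ := InvCharThree.herm_equiv_sylow_psu hF (even_q hn hq) hq P
  exact ut_of_equiv e (ut_herm hF (even_q hn hq))

theorem psu_center (hn : 2 ≤ n) (hq : q = 2 ^ n) (hF : Fintype.card F = q ^ 2) :
    center (Cfsg.PSU 3 F q) = ⊥ := by
  have h4 : 2 ^ 2 ≤ q := hq ▸ Nat.pow_le_pow_right (by norm_num) hn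
  have hs := ClassicalGroups.psu_isSimpleGroup (n := 3) hF le_rfl (fun h => by omega)
  refine (hs.eq_bot_or_eq_top_of_normal _ inferInstance).resolve_right fun htop => ?_
  obtain ⟨P⟩ : Nonempty (Sylow 2 (Cfsg.PSU 3 F q)) := inferInstance
  obtain ⟨x, hx⟩ := exists_noncentral (ut_psu (by omega) hq hF P) (by omega)
  refine hx (mem_center_iff.2 fun g => Subtype.ext ?_)
  exact mem_center_iff.1 (htop ▸ mem_top (x : Cfsg.PSU 3 F q) : (x : Cfsg.PSU 3 F q) ∈ _) (g : Cfsg.PSU 3 F q)

variable {G : Type u} [Group G] [Finite G]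

/-- The group is not of `PSU₃` type if some involution of its Sylow centre is central. -/
theorem not_psu_of_central (hn : 2 ≤ n) (hq : q = 2 ^ n) (hF : Fintype.card F = q ^ 2) {a : G}
    (ha : a ∈ center G) (ha2 : orderOf a = 2)
    {N : Subgroup (G ⧸ Cfsg.oddCore G)} [N.Normal] (hi : Odd N.index) (e : ↥N ≃* Cfsg.PSU 3 F q) : False := by
  set π := QuotientGroup.mk' (Cfsg.oddCore G)
  have hodd : Odd (Nat.card (Cfsg.oddCore G)) := Nat.coprime_two_right.1 CfsgLib.PCore.pPrimeCore_coprime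
  have ha1 : π a ≠ 1 := fun h1 => by
    have h2 := (Cfsg.oddCore G).orderOf_dvd_natCard ((QuotientGroup.eq_one_iff a).1 h1)
    rw [ha2] at h2
    exact hodd.not_two_dvd_nat h2
  have haN : π a ∈ N := by
    rw [← QuotientGroup.eq_one_iff, ← QuotientGroup.mk'_apply, ← orderOf_eq_one_iff]
    have h1 : orderOf (QuotientGroup.mk' N (π a)) ∣ 2 := by
      refine dvd_trans ?_ ha2.dvd
      exact (orderOf_map_dvd _ _).trans (orderOf_map_dvd π a)
    refine Nat.eq_one_of_dvd_coprimes (Nat.coprime_two_left.2 hi) h1 ?_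
    rw [index_eq_card]
    exact orderOf_dvd_natCard _
  have hc : e ⟨π a, haN⟩ ∈ center (Cfsg.PSU 3 F q) := by
    refine mem_center_iff.2 fun g => ?_
    obtain ⟨g, rfl⟩ := e.surjective g
    rw [← map_mul, ← map_mul]
    congr 1
    refine Subtype.ext ?_
    obtain ⟨g', hg'⟩ := QuotientGroup.mk'_surjective (Cfsg.oddCore G) (g : G ⧸ Cfsg.oddCore G)
    show (g : G ⧸ Cfsg.oddCore G) * π a = π a * g
    rw [← hg', ← map_mul, ← map_mul, mem_center_iff.1 ha g']
  rw [psu_center hn hq hF, mem_bot, map_eq_one_iff e e.injective] at hc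
  exact ha1 (congrArg Subtype.val hc)

/-- The Bender type case. -/
theorem of_bender (hn : 2 ≤ n) (hq : q = 2 ^ n) (hF : Fintype.card F = q ^ 2) (S : Sylow 2 G)
    (h : UT ↥(S : Subgroup G) q)
    (hB : BenderQ.IsBenderType (Cfsg.pElementClosure 2 (⊤ : Subgroup (G ⧸ Cfsg.oddCore G)))) :
    ∃ N : Subgroup (G ⧸ Cfsg.oddCore G), N.Normal ∧ Odd N.index ∧ Nonempty (↥N ≃* Cfsg.PSU 3 F q) := by
  classical
  have : Fact (Nat.Prime 2) := ⟨Nat.prime_two⟩
  set Q := G ⧸ Cfsg.oddCore G
  set L := Cfsg.pElementClosure 2 (⊤ : Subgroup Q)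
  set T : Sylow 2 Q := S.mapSurjective (QuotientGroup.mk'_surjective (Cfsg.oddCore G))
  have hTL : (T : Subgroup Q) ≤ L := fun x hx => by
    obtain ⟨k, hk⟩ := IsPGroup.iff_orderOf.1 T.2 ⟨x, hx⟩
    exact subset_closure ⟨mem_top x, k, by rwa [Subgroup.orderOf_mk] at hk⟩
  have hLn : L.Normal := ⟨fun x hx g => by
    induction hx using closure_induction with
    | mem x hx =>
      obtain ⟨-, k, hk⟩ := hx
      exact subset_closure ⟨mem_top _, k, by rw [Involutions.orderOf_conj_eq, hk]⟩
    | one => rw [mul_one, mul_inv_cancel]; exact one_mem _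
    | mul a b _ _ i1 i2 =>
      rw [show g * (a * b) * g⁻¹ = g * a * g⁻¹ * (g * b * g⁻¹) by group]
      exact mul_mem i1 i2
    | inv a _ i1 =>
      rw [show g * a⁻¹ * g⁻¹ = (g * a * g⁻¹)⁻¹ by group]
      exact inv_mem i1⟩
  have hLi : Odd L.index := by
    rw [← Nat.not_even_iff_odd, even_iff_two_dvd]
    exact fun hd => T.not_dvd_index (hd.trans (index_dvd_of_le hTL))
  let TL : Sylow 2 L := T.subtype hTL
  let f : ↥(S : Subgroup G) →* ↥(T : Subgroup Q) :=
    ((QuotientGroup.mk' (Cfsg.oddCore G)).domRestrict (S : Subgroup G)).codRestrict _ fun x =>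
      ⟨x, x.2, rfl⟩
  have hf : Function.Bijective f := by
    constructor
    · rw [injective_iff_map_eq_one]
      intro x hx
      have hxO : (x : G) ∈ Cfsg.oddCore G := (QuotientGroup.eq_one_iff _).1 (congrArg Subtype.val hx)
      obtain ⟨k, hk⟩ := S.2 x
      refine orderOf_eq_one_iff.1 (Nat.eq_one_of_dvd_coprimes
        ((Nat.coprime_two_left.2 (Nat.coprime_two_right.1 (CfsgLib.PCore.pPrimeCore_coprime (p := 2) (G := G)))).pow_left k)
        (orderOf_dvd_of_pow_eq_one hk) ?_)
      rw [← orderOf_coe]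
      exact (Cfsg.oddCore G).orderOf_dvd_natCard hxO
    · rintro ⟨_, x, hx, rfl⟩
      exact ⟨⟨x, hx⟩, rfl⟩
  have hTLut : UT ↥(TL : Subgroup L) q :=
    ut_of_equiv ((MulEquiv.ofBijective f hf).trans (subgroupOfEquivOfLe hTL).symm) h
  have h8 : 2 ^ 2 ≤ q := hq ▸ Nat.pow_le_pow_right (by norm_num) hn
  refine ⟨L, hLn, hLi, ?_⟩
  rcases hB with ⟨K, i1, i2, ⟨m, hm, hK⟩, ⟨e⟩⟩ | hSz | ⟨K, i1, i2, m, hm, hK, ⟨e⟩⟩
  · exfalso
    have h2 : (2 : K) = 0 := by
      obtain ⟨p, hp⟩ := CharP.exists K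
      obtain ⟨j, hpp, hj⟩ := FiniteField.card K p
      have hp2 : p = 2 := by
        have h2 : p ∣ 2 ^ m := hK ▸ hj.symm ▸ dvd_pow_self p j.2.ne'
        exact (Nat.prime_dvd_prime_iff_eq hpp Nat.prime_two).1 (hpp.dvd_of_dvd_pow h2)
      subst hp2
      exact_mod_cast CharP.cast_eq_zero K 2
    obtain ⟨x, hx⟩ := exists_noncentral hTLut (by omega)
    refine hx (hTLut.sq_one x (Subtype.ext ?_))
    obtain ⟨k, hk⟩ := TL.2 x
    have hk' : (x : L) ^ 2 ^ k = 1 := congrArg Subtype.val hk
    have h1 := psl_sq_eq_one h2 (x := e x) (k := k) (by rw [← map_pow, hk', map_one])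
    rw [← map_pow, map_eq_one_iff e e.injective, pow_two] at h1
    exact h1
  · exfalso
    obtain ⟨K, i1, i2, m, hm, hK, ⟨e⟩⟩ := hSz
    obtain ⟨hc, ⟨P⟩⟩ := SuzukiGroup.exists_params hK
    let P₁ : Sylow 2 L := (SuzukiGroup.sylowTwo P).mapSurjective (f := e.symm.toMonoidHom) e.symm.surjective
    have hut : UT ↥(SuzukiGroup.unip P) q := by
      refine ut_of_equiv ((Sylow.equiv TL P₁).trans ?_) hTLut
      exact ((SuzukiGroup.unip P).equivMapOfInjective e.symm.toMonoidHom e.symm.injective).symm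
    have h1 : Fintype.card K ^ 2 = q ^ 3 := (SuzukiGroup.card_unip P).symm.trans hut.card
    have h2 : Fintype.card K = q := by
      rw [← card_sq_one hut, ← Nat.card_eq_fintype_card]
      refine Nat.card_congr (Equiv.ofBijective (fun b => ⟨SuzukiGroup.uu P 0 b, ?_⟩) ⟨?_, ?_⟩)
      · rw [← pow_two, SuzukiGroup.uu_sq, zero_mul, SuzukiGroup.uu_zero]
      · intro b c e'
        exact (SuzukiGroup.uu_inj P (congrArg Subtype.val e')).2
      · rintro ⟨x, hx⟩
        obtain ⟨a, b, rfl⟩ := SuzukiGroup.uu_surj P x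
        rw [← pow_two, SuzukiGroup.uu_sq, ← SuzukiGroup.uu_zero P] at hx
        have ha := (SuzukiGroup.uu_inj P hx).2
        have ha' : a = 0 := by
          rcases mul_eq_zero.1 ha with h' | h'
          · exact h'
          · exact P.θ.injective (h'.trans (map_zero P.θ).symm)
        exact ⟨b, Subtype.ext (by subst ha'; rfl)⟩
    rw [h2] at h1
    have := Nat.pow_right_injective (show 2 ≤ q by omega) h1
    omega
  · have hme : Even (2 ^ m) := Nat.even_pow.2 ⟨even_two, by omega⟩
    let _ := InvCharThree.hermGroup hK hme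
    let P₁ : Sylow 2 (Cfsg.PSU 3 K (2 ^ m)) := TL.mapSurjective (f := e.toMonoidHom) e.surjective
    obtain ⟨g⟩ := InvCharThree.herm_equiv_sylow_psu hK hme (n := m) rfl P₁
    have h1 : (2 ^ m) ^ 3 = (2 ^ n) ^ 3 := by
      rw [← InvCharThree.natCard_herm hK hme, Nat.card_congr g.toEquiv, ← hq, ← hTLut.card]
      exact (Nat.card_congr ((TL : Subgroup L).equivMapOfInjective e.toMonoidHom e.injective).toEquiv).symm
    rw [← pow_mul, ← pow_mul] at h1
    have hmn := Nat.pow_right_injective (le_refl 2) h1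
    obtain rfl : m = n := by omega
    subst hq
    exact ⟨e.trans (DimThreeSub.psuEquiv 3 (2 ^ m) (FiniteField.ringEquivOfCardEq (hK.trans hF.symm)))⟩

theorem step (hn : 3 ≤ n) (hq : q = 2 ^ n) (hF : Fintype.card F = q ^ 2) (S : Sylow 2 G)
    (h : UT ↥(S : Subgroup G) q) (hO : Cfsg.oddCore G = ⊥)
    (hind : ∀ a ∈ zS S, a ∉ center G → CoreClosed ↥(centralizer ({a} : Set G))) : Concl G F q := by
  have : Fact (Nat.Prime 2) := ⟨Nat.prime_two⟩
  have h8 : 2 ^ 3 ≤ q := hq ▸ Nat.pow_le_pow_right (by norm_num) hn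
  have closed_of_normal : (S : Subgroup G).Normal → Concl G F q := fun hS =>
    Or.inl (coreClosed_of_normal_quotient S (hS.map _ (QuotientGroup.mk'_surjective _)))
  by_cases hc : ∀ a ∈ zS S, a ∈ center G
  · exact closed_of_normal (normal_of_central h (by omega) hO hc)
  by_cases hN : (S : Subgroup G).Normal
  · exact closed_of_normal hN
  push Not at hc
  obtain ⟨a, ha, hac⟩ := hc
  have H : Hyp S q := ⟨h, by omega, hO, ⟨a, ha, hac⟩, hind, hN⟩
  have hZ := H.zC_eq_bot
  have hSE : Cfsg.IsStronglyEmbedded (locSub S) := by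
    refine ⟨H.locSub_ne_top, ?_, fun g hg => ?_⟩
    · rw [even_iff_two_dvd, ← orderOf_eq_prime (show a ^ 2 = 1 by rw [pow_two, zS_sq h ha])
        (fun e => hac (e ▸ one_mem _))]
      exact orderOf_dvd_natCard _ (H.sylow_le (zS_le ha))
    · rw [← Nat.not_even_iff_odd, even_iff_two_dvd]
      intro hd
      obtain ⟨y, hy⟩ := exists_prime_orderOf_dvd_card' 2 hd
      rw [← Subgroup.orderOf_coe] at hy
      obtain ⟨w, hw, hwy⟩ := y.2.2
      have hwy' : g * w * g⁻¹ = (y : G) := hwy
      have hy2 : (y : G) * y = 1 := Involutions.mul_self_eq_one hy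
      refine hg (H.mem_of_inter y.2.1 (by rw [← hwy', show g⁻¹ * (g * w * g⁻¹) * g = w by group]; exact hw)
        (by rw [hy2]; exact one_mem _) fun hyc => ?_)
      have hp : IsPGroup 2 (zpowers (y : G)) :=
        IsPGroup.of_card (n := 1) (by rw [Nat.card_zpowers, hy, pow_one])
      have hn' : (y : G) ∈ zpowers (y : G) ⊓ normalizer ((S : Subgroup G) : Set G) :=
        ⟨mem_zpowers _, mem_normalizer_iff.2 fun u => by
          rw [← mem_center_iff.1 hyc u, mul_inv_cancel_right]⟩
      replace hn' := le_of_eq (hp.inf_normalizer_sylow S) hn'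
      have h1 : (y : G) ∈ zC S := ⟨mem_zS_of_sq h hn'.2 hy2, hyc⟩
      rw [hZ, mem_bot] at h1
      exact Involutions.ne_one_of_involution hy h1
  rcases BenderQ.classification BenderQ.benderKernel RankOneRecog.rankOneClass hSE with h1 | h1
  · exfalso
    have ha2 : orderOf a = 2 := orderOf_eq_prime (by rw [pow_two, zS_sq h ha]) (fun e => hac (e ▸ one_mem _))
    have h2 := (h1 a ha2).1
    rw [show Cfsg.pPrimeCore 2 G = ⊥ from hO, bot_sup_eq] at h2
    exact hac (mem_center_iff.2 fun g => mem_centralizer_singleton_iff.1 (h2 ▸ mem_top g))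
  · exact Or.inr (of_bender (by omega) hq hF S h h1)

/-- The theorem. -/
theorem concl (hn : 3 ≤ n) (hq : q = 2 ^ n) (hF : Fintype.card F = q ^ 2) :
    ∀ (G : Type u) [Group G] [Finite G] (S : Sylow 2 G), UT ↥(S : Subgroup G) q → Concl G F q := by
  have : Fact (Nat.Prime 2) := ⟨Nat.prime_two⟩
  suffices H : ∀ (k : ℕ) (G : Type u) [Group G] [Finite G] (S : Sylow 2 G), Nat.card G = k →
      UT ↥(S : Subgroup G) q → Concl G F q from fun G _ _ S => H _ G S rfl
  intro k
  induction k using Nat.strong_induction_on with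
  | _ k ih =>
    intro G _ _ S hk h
    subst hk
    set O := Cfsg.oddCore G with hOdef
    haveI : O.Normal := Cfsg.pPrimeCore_normal 2 _
    by_cases hO : O = ⊥
    · refine step hn hq hF S h hO fun a ha hac => ?_
      let T := S.subtype (le_centralizer_of_mem_zS ha)
      have hlt : Nat.card ↥(centralizer ({a} : Set G)) < Nat.card G := by
        refine lt_of_le_of_ne (card_le_card_group _) fun e => hac (mem_center_iff.2 fun g => ?_)
        refine mem_centralizer_singleton_iff.1 ?_
        rw [eq_top_of_card_eq _ e]; exact mem_top g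
      rcases ih _ hlt _ T rfl (ut_of_equiv (subgroupOfEquivOfLe (le_centralizer_of_mem_zS ha)).symm h) with
        h1 | ⟨N, hNn, hi, ⟨e⟩⟩
      · exact h1
      · haveI := hNn
        exact (not_psu_of_central (by omega) hq hF
          (a := (⟨a, mem_centralizer_singleton_iff.2 rfl⟩ : ↥(centralizer ({a} : Set G))))
          (mem_center_iff.2 fun g => Subtype.ext (mem_centralizer_singleton_iff.1 g.2))
          (by rw [orderOf_mk]; exact orderOf_eq_prime (by rw [pow_two, zS_sq h ha]) (fun e' => hac (e' ▸ one_mem _)))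
          hi e).elim
    · have hlt : Nat.card (G ⧸ O) < Nat.card G := by
        rw [Subgroup.card_eq_card_quotient_mul_card_subgroup O]
        exact lt_mul_of_one_lt_right Nat.card_pos ((one_lt_card_iff_ne_bot O).2 hO)
      let Tb : Sylow 2 (G ⧸ O) := S.mapSurjective (QuotientGroup.mk'_surjective O)
      have hinj : Function.Injective ((QuotientGroup.mk' O).domRestrict (S : Subgroup G)) := by
        rw [injective_iff_map_eq_one]
        intro x hx
        have hxO : (x : G) ∈ O := (QuotientGroup.eq_one_iff _).1 hx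
        obtain ⟨j, hj⟩ := S.2 x
        refine orderOf_eq_one_iff.1 (Nat.eq_one_of_dvd_coprimes
          ((Nat.coprime_two_left.2 (Nat.coprime_two_right.1 (CfsgLib.PCore.pPrimeCore_coprime (p := 2) (G := G)))).pow_left j)
          (orderOf_dvd_of_pow_eq_one hj) ?_)
        rw [← orderOf_coe]
        exact O.orderOf_dvd_natCard hxO
      have hut : UT ↥(Tb : Subgroup (G ⧸ O)) q :=
        ut_of_equiv ((MonoidHom.ofInjective hinj).trans (MulEquiv.subgroupCongr
          (MonoidHom.domRestrict_range _ _))) h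
      have hO' : Cfsg.oddCore (G ⧸ O) = ⊥ := CfsgLib.PCore.pPrimeCore_quotient_pPrimeCore
      let e0 : (G ⧸ O) ⧸ Cfsg.oddCore (G ⧸ O) ≃* G ⧸ O :=
        (QuotientGroup.quotientMulEquivOfEq hO').trans QuotientGroup.quotientBot
      rcases ih _ hlt (G ⧸ O) Tb rfl hut with h1 | ⟨N, hNn, hi, ⟨e⟩⟩
      · left
        refine coreClosed_of_normal_quotient S ?_
        have h2 := h1 Tb
        rw [hO', bot_sup_eq, normalizer_eq_top_iff] at h2
        exact h2
      · right
        refine ⟨N.map e0.toMonoidHom, hNn.map _ e0.surjective, ?_, ⟨?_⟩⟩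
        · rw [index_map_of_bijective (f := e0.toMonoidHom) e0.bijective]; exact hi
        · exact (N.equivMapOfInjective e0.toMonoidHom e0.injective).symm.trans e

/-- Two-length at most one. -/
theorem pLengthLE_of_coreClosed (h : CoreClosed G) : Cfsg.PLengthLE 2 1 G := by
  have : Fact (Nat.Prime 2) := ⟨Nat.prime_two⟩
  obtain ⟨T⟩ := (inferInstance : Nonempty (Sylow 2 G))
  set O := Cfsg.oddCore G
  haveI hOn : O.Normal := Cfsg.pPrimeCore_normal 2 _
  set K := ((T : Subgroup G).map (QuotientGroup.mk' O)).comap (QuotientGroup.mk' O)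
  have hKn : K.Normal := (normal_quotient_of_coreClosed T h).comap _
  have hOK : O ≤ K := fun x hx => by
    rw [mem_comap, QuotientGroup.mk'_apply, (QuotientGroup.eq_one_iff x).2 hx]; exact one_mem _
  let L : ℕ → Subgroup G := fun i => if i = 0 then ⊥ else if i = 1 then O else if i = 2 then K else ⊤
  have hL : ∀ i, 3 ≤ i → L i = ⊤ := fun i hi => by
    simp only [L, if_neg (show i ≠ 0 by omega), if_neg (show i ≠ 1 by omega), if_neg (show i ≠ 2 by omega)]
  have key := CfsgLib.HallHigman.le_upper_of_series (p := 2) 0 (by decide) L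
    (fun i => by
      simp only [L]
      split_ifs <;> infer_instance) (by simp [L])
    (fun i hi => by
      rcases (show i = 0 ∨ i = 2 ∨ 3 ≤ i by obtain ⟨j, rfl⟩ := hi; omega) with rfl | rfl | h3
      · simp only [L]
        simpa [relIndex_bot_left] using CfsgLib.PCore.pPrimeCore_coprime (p := 2) (G := G)
      · rw [hL 3 le_rfl, show L 2 = K from rfl, relIndex_top_right]
        rw [Nat.coprime_two_right, ← Nat.not_even_iff_odd, even_iff_two_dvd]
        refine fun hd => T.not_dvd_index (hd.trans (index_dvd_of_le ?_))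
        exact fun x hx => mem_map_of_mem _ hx
      · rw [hL i h3, hL (i + 1) (by omega), relIndex_self]; exact Nat.coprime_one_left 2)
    (fun i hi => by
      rcases (show i = 1 ∨ 3 ≤ i by rw [Nat.not_even_iff] at hi; omega) with rfl | h3
      · rw [show L 1 = O from rfl, show L 2 = K from rfl]
        obtain ⟨m, hm⟩ := IsPGroup.iff_card.1 (T.2.map (QuotientGroup.mk' O))
        refine ⟨m, ?_⟩
        have h1 : (O.subgroupOf K).index = Nat.card ((QuotientGroup.mk' O).domRestrict K).range := by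
          rw [← index_ker, MonoidHom.ker_domRestrict, QuotientGroup.ker_mk']
        rw [relIndex, h1, MonoidHom.domRestrict_range, map_comap_eq_self_of_surjective
          (QuotientGroup.mk'_surjective O), hm]
      · rw [hL i h3, hL (i + 1) (by omega), relIndex_self]; exact ⟨0, rfl⟩) 3
  rw [hL 3 le_rfl] at key
  exact top_le_iff.1 key

end CfsgLib.UThreeSylow
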