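import Mathlib
import Cfsg.Agent.Lib.UThreeSylow.Local
import Cfsg.Agent.S0215

/-!
# Groups with Sylow 2-subgroups of the type of `PSU₃(4)`: the centre of the Sylow subgroup

The three involutions of `Z(S)` and their fusion in `N(S)`.
-/

set_option autoImplicit false
set_option linter.style.haveILetI false
set_option linter.unusedSectionVars false

namespace CfsgLib.UThreeSylow

open Subgroup CfsgLib.InvChar.InvolutionCores

universe u

variable {G : Type u} [Group G] [Finite G] {S : Sylow 2 G}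

variable (h : UT ↥(S : Subgroup G) 4)
include h

theorem zS_cases {a b x : G} (ha : a ∈ zS S) (hb : b ∈ zS S) (ha1 : a ≠ 1) (hb1 : b ≠ 1)
    (hab : a ≠ b) (hx : x ∈ zS S) : x = 1 ∨ x = a ∨ x = b ∨ x = a * b := by
  by_contra hc
  push Not at hc
  obtain ⟨x1, xa, xb, xab⟩ := hc
  have haa := zS_sq h ha
  let f : Fin 5 → zS S :=
    ![1, ⟨a, ha⟩, ⟨b, hb⟩, ⟨a * b, mul_mem ha hb⟩, ⟨x, hx⟩]
  have hab1 : a * b ≠ 1 := fun e => hab (by rw [← inv_eq_of_mul_eq_one_right haa, ← inv_eq_of_mul_eq_one_right e])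
  have hf : Function.Injective f := by
    intro i j e
    have e' := congrArg Subtype.val e
    fin_cases i <;> fin_cases j <;> simp [f] at e' ⊢
    all_goals first
      | exact ha1 e' | exact ha1 e'.symm | exact hb1 e' | exact hb1 e'.symm
      | exact hab e' | exact hab e'.symm | exact hab1 e' | exact hab1 e'.symm
      | exact x1 e' | exact x1 e'.symm | exact xa e' | exact xa e'.symm
      | exact xb e' | exact xb e'.symm | exact xab e' | exact xab e'.symm
  have h1 := Nat.card_le_card_of_injective f hf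
  rw [Nat.card_eq_fintype_card, Fintype.card_fin, card_zS h] at h1
  omega

theorem exists_other {a : G} : ∃ b ∈ zS S, b ≠ 1 ∧ b ≠ a := by
  by_contra hc
  push Not at hc
  have hsub : (zS S : Set G) ⊆ {1, a} := fun z hz => by
    by_cases h1 : z = 1
    · exact Or.inl h1
    · exact Or.inr (hc z hz h1)
  have h1 := Set.ncard_le_ncard hsub (Set.toFinite _)
  have h2 : ({1, a} : Set G).ncard ≤ 2 := (Set.ncard_insert_le _ _).trans (by simp)
  have h3 : (zS S : Set G).ncard = 4 := card_zS h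
  omega

/-- An element of `N(S)` fixing one involution of `Z(S)` fixes all. -/
theorem fix_zS {n z a : G} (hn : n ∈ normalizer ((S : Subgroup G) : Set G)) (hz : z ∈ zS S)
    (hz1 : z ≠ 1) (hfix : n * z * n⁻¹ = z) (ha : a ∈ zS S) : n * a * n⁻¹ = a := by
  rcases eq_or_ne a 1 with rfl | ha1
  · group
  rcases eq_or_ne z a with rfl | hza
  · exact hfix
  have hmem : n * a * n⁻¹ ∈ zS S := (mem_normalizer_iff.1 (normalizer_le_normalizer_zS hn) a).1 ha
  rcases zS_cases h hz ha hz1 ha1 hza hmem with e | e | e | e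
  · exact absurd (conj_eq_one_iff.1 e) ha1
  · exact absurd (mul_left_cancel (mul_right_cancel (hfix.trans e.symm))) hza
  · exact e
  · exfalso
    have h2 : Commute (n ^ 2) a := by
      refine eq_mul_of_mul_inv_eq ?_
      rw [show n ^ 2 * a * (n ^ 2)⁻¹ = n * (n * a * n⁻¹) * n⁻¹ by rw [pow_two]; group, e,
        show n * (z * a) * n⁻¹ = (n * z * n⁻¹) * (n * a * n⁻¹) by group, hfix, e, ← mul_assoc,
        zS_sq h hz, one_mul]
    let SN := (S : Subgroup G).subgroupOf (normalizer ((S : Subgroup G) : Set G))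
    have hmem : n ^ SN.index ∈ (S : Subgroup G) :=
      pow_index_mem SN (⟨n, hn⟩ : ↥(normalizer ((S : Subgroup G) : Set G)))
    have hodd : Odd SN.index := by
      have : Fact (Nat.Prime 2) := ⟨Nat.prime_two⟩
      rw [← Nat.not_even_iff_odd, even_iff_two_dvd]
      exact (S.subtype le_normalizer).not_dvd_index
    obtain ⟨k, hk⟩ := hodd
    have h3 : Commute (n ^ SN.index) a := (mem_zS.1 ha).2 _ hmem
    rw [hk, pow_add, pow_mul, pow_one] at h3
    have h4 : Commute n a := by
      have h5 := (h2.pow_left k).inv_left.mul_left h3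
      rwa [inv_mul_cancel_left] at h5
    rw [h4.eq, mul_inv_cancel_right] at e
    exact hz1 (right_eq_mul.1 e)

/-- Without central involutions in `Z(S)` its involutions are conjugate in `N(S)`. -/
theorem fused_of_not_central (hO : Cfsg.oddCore G = ⊥) {a b : G} (ha : a ∈ zS S) (hb : b ∈ zS S)
    (hac : a ∉ center G) (hb1 : b ≠ 1) :
    ∃ n ∈ normalizer ((S : Subgroup G) : Set G), n * a * n⁻¹ = b := by
  have ha1 : a ≠ 1 := fun e => hac (e ▸ one_mem _)
  obtain ⟨n, hn, hna⟩ : ∃ n ∈ normalizer ((S : Subgroup G) : Set G), n * a * n⁻¹ ≠ a := by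
    by_contra hc
    push Not at hc
    exact hac (central_of_fixed h hO ha hc)
  have hc : n * a * n⁻¹ ∈ zS S := (mem_normalizer_iff.1 (normalizer_le_normalizer_zS hn) a).1 ha
  have hd : n * (n * a * n⁻¹) * n⁻¹ ∈ zS S :=
    (mem_normalizer_iff.1 (normalizer_le_normalizer_zS hn) _).1 hc
  have hc1 : n * a * n⁻¹ ≠ 1 := fun e => ha1 (conj_eq_one_iff.1 e)
  have hd1 : n * (n * a * n⁻¹) * n⁻¹ ≠ 1 := fun e => hc1 (conj_eq_one_iff.1 e)
  have hdc : n * (n * a * n⁻¹) * n⁻¹ ≠ n * a * n⁻¹ := fun e =>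
    hna (fix_zS h hn hc hc1 e ha)
  have hda : n * (n * a * n⁻¹) * n⁻¹ ≠ a := by
    intro e
    have hne : a * (n * a * n⁻¹) ≠ 1 := fun e1 => hna
      ((inv_eq_of_mul_eq_one_right e1).symm.trans (inv_eq_of_mul_eq_one_right (zS_sq h ha)))
    refine hna (fix_zS h hn (mul_mem ha hc) hne ?_ ha)
    rw [show n * (a * (n * a * n⁻¹)) * n⁻¹ = (n * a * n⁻¹) * (n * (n * a * n⁻¹) * n⁻¹) by group, e,
      zS_comm hc ha]
  rcases zS_cases h ha hc ha1 hc1 (Ne.symm hna) hb with e | e | e | e
  · exact absurd e hb1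
  · exact ⟨1, one_mem _, by rw [e, one_mul, inv_one, mul_one]⟩
  · exact ⟨n, hn, e.symm⟩
  · rcases zS_cases h ha hc ha1 hc1 (Ne.symm hna) hd with e' | e' | e' | e'
    · exact absurd e' hd1
    · exact absurd e' hda
    · exact absurd e' hdc
    · refine ⟨n * n, mul_mem hn hn, ?_⟩
      rw [e, ← e']; group

end CfsgLib.UThreeSylow
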