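import Mathlib
import Cfsg.Agent.Lib.UThreeSylow.FourBase
import Cfsg.Agent.Lib.UThreeSylow.Central

/-!
# Sylow 2-subgroups of the type of `PSU₃(4)`: the centralisers of the involutions of the centre

A central involution of `Z(S)` forces a group closed over its core, so `C(a) = O(C(a)) · N_{C(a)}(S)`
for the involutions `a` of `Z(S)`.
-/

set_option autoImplicit false
set_option linter.style.haveILetI false
set_option linter.unusedSectionVars false

namespace CfsgLib.UThreeSylow

open Subgroup CfsgLib.InvChar.InvolutionCores CfsgLib.InvCharSixtyFour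

universe u

/-- For `q = 4` the commutativity of the centralisers follows from the other properties. -/
theorem ut_of_hermLike_four {T : Type*} [Group T] [Finite T] (h : HermLike T 4) : UT T 4 := by
  refine ⟨h, fun x y w hx hy hw => ?_⟩
  let f : T →* ↥(center T) :=
    MonoidHom.mk' (fun w => ⟨cm x w, h.cm_mem x w⟩) fun u v => Subtype.ext (by
      have hc := mem_center_iff.1 (h.cm_mem x v)
      calc cm x (u * v) = cm x u * (u * cm x v * u⁻¹) := by unfold cm; group
        _ = cm x u * cm x v := by rw [hc u, mul_inv_cancel_right])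
  have hfs : Function.Surjective f := fun c => by
    obtain ⟨v, hv⟩ := h.cm_onto x hx c c.2
    exact ⟨v, Subtype.ext hv⟩
  have hmem : ∀ u : T, u ∈ f.ker ↔ Commute x u := fun u => by
    rw [MonoidHom.mem_ker]
    constructor
    · intro hu
      have h1 : cm x u = 1 := congrArg Subtype.val hu
      unfold cm at h1
      rw [mul_inv_eq_one, mul_inv_eq_iff_eq_mul] at h1
      exact h1
    · intro hu
      refine Subtype.ext ?_
      show cm x u = 1
      unfold cm
      rw [hu.eq]
      group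
  set C := f.ker
  have hCcard : Nat.card C = 16 := by
    show Nat.card f.ker = 16
    have h1 := f.ker.card_mul_index
    rw [index_ker, MonoidHom.range_eq_top.2 hfs, card_top, h.card_center, h.card] at h1
    omega
  have hxC : x ∈ C := (hmem x).2 (Commute.refl x)
  let x' : C := ⟨x, hxC⟩
  have hZC : center T ≤ C := fun z hz => (hmem z).2 (mem_center_iff.1 hz x)
  have hle : center T ⊔ zpowers x ≤ (center C).map C.subtype := by
    refine sup_le (fun z hz => ⟨⟨z, hZC hz⟩, mem_center_iff.2 fun g => Subtype.ext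
      (mem_center_iff.1 hz g), rfl⟩) (zpowers_le.2 ⟨x', mem_center_iff.2 fun g =>
      Subtype.ext ((hmem g).1 g.2).eq.symm, rfl⟩)
  have hne : center T < (center C).map C.subtype :=
    lt_of_le_of_ne (le_sup_left.trans hle) fun e =>
      hx (e ▸ hle (mem_sup_right (mem_zpowers x)))
  have hcz : Nat.card (center C) > 4 := by
    rw [← card_map_of_injective (f := C.subtype) C.subtype_injective, ← h.card_center]
    refine lt_of_le_of_ne (card_le_of_le hne.le) fun e => hne.ne ?_
    exact eq_of_le_of_card_ge hne.le e.ge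
  have hidx : (center C).index ≤ 2 := by
    have h1 := (center C).card_mul_index
    have h2 : (center C).index ∣ 16 := hCcard ▸ index_dvd_card _
    rw [hCcard] at h1
    by_contra hc
    have h4 : 4 ≤ (center C).index := by
      rcases Nat.lt_or_ge (center C).index 4 with h3 | h3
      · interval_cases hi : (center C).index
        norm_num at h2
      · exact h3
    nlinarith
  have : IsCyclic (C ⧸ center C) := by
    rw [index_eq_card] at hidx
    rcases (show Nat.card (C ⧸ center C) = 1 ∨ Nat.card (C ⧸ center C) = 2 by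
      have := Nat.card_pos (α := C ⧸ center C)
      omega) with h1 | h1
    · have := (Nat.card_eq_one_iff_unique.1 h1).1
      exact isCyclic_of_subsingleton
    · have : Fact (Nat.Prime 2) := ⟨Nat.prime_two⟩
      exact isCyclic_of_prime_card h1
  exact congrArg Subtype.val (((QuotientGroup.mk' (center C)).isMulCommutative_of_isCyclic_of_ker_le_center
    (by rw [QuotientGroup.ker_mk'])).is_comm.comm ⟨y, (hmem y).2 hy⟩ ⟨w, (hmem w).2 hw⟩)

variable {G : Type u} [Group G] [Finite G] {S : Sylow 2 G}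

theorem eq_one_of_odd_of_mem {x : G} (hx : x ∈ (S : Subgroup G)) (ho : Odd (orderOf x)) : x = 1 := by
  obtain ⟨k, hk⟩ := IsPGroup.iff_orderOf.1 S.2 ⟨x, hx⟩
  rw [orderOf_mk] at hk
  rw [← orderOf_eq_one_iff]
  exact Nat.eq_one_of_dvd_coprimes ((Nat.coprime_two_left.2 ho).pow_left k) hk.dvd dvd_rfl

/-- An element of odd order is in every subgroup containing a power with exponent a power of two. -/
theorem exists_odd_part (g : G) : ∃ a : ℕ, Odd (orderOf (g ^ 2 ^ a)) := by
  obtain ⟨a, k, hk, hak⟩ := Nat.exists_eq_two_pow_mul_odd (n := orderOf g) (orderOf_pos g).ne'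
  refine ⟨a, ?_⟩
  rw [orderOf_pow, hak, Nat.gcd_eq_right (Dvd.intro k rfl), Nat.mul_div_cancel_left _ (by positivity)]
  exact hk

variable (h : UT ↥(S : Subgroup G) 4)
include h

theorem coreClosed_of_central {a : G} (ha : a ∈ zS S) (ha1 : a ≠ 1) (hc : a ∈ center G) :
    CoreClosed G := by
  have : Fact (Nat.Prime 2) := ⟨Nat.prime_two⟩
  set O := Cfsg.oddCore G
  haveI : O.Normal := Cfsg.pPrimeCore_normal 2 _
  refine coreClosed_of_normal_quotient S ?_
  let Tb : Sylow 2 (G ⧸ O) := S.mapSurjective (QuotientGroup.mk'_surjective O)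
  have hodd : Odd (Nat.card O) := Nat.coprime_two_right.1 CfsgLib.PCore.pPrimeCore_coprime
  have hinj : Function.Injective ((QuotientGroup.mk' O).domRestrict (S : Subgroup G)) := by
    rw [injective_iff_map_eq_one]
    intro x hx
    exact Subtype.ext (eq_one_of_odd_of_mem x.2
      (hodd.of_dvd_nat (O.orderOf_dvd_natCard ((QuotientGroup.eq_one_iff _).1 hx))))
  have hut : UT ↥(Tb : Subgroup (G ⧸ O)) 4 :=
    ut_of_equiv ((MonoidHom.ofInjective hinj).trans (MulEquiv.subgroupCongr
      (MonoidHom.domRestrict_range _ _))) h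
  have hO' : Cfsg.oddCore (G ⧸ O) = ⊥ := CfsgLib.PCore.pPrimeCore_quotient_pPrimeCore
  set ā := QuotientGroup.mk' O a
  have hcb : ā ∈ center (G ⧸ O) := mem_center_iff.2 fun g => by
    obtain ⟨g, rfl⟩ := QuotientGroup.mk'_surjective O g
    rw [← map_mul, ← map_mul, mem_center_iff.1 hc g]
  have hab : ā ∈ zS Tb := mem_zS.2 ⟨mem_map_of_mem _ (zS_le ha), fun s _ => mem_center_iff.1 hcb s⟩
  have ha1' : ā ≠ 1 := fun e => ha1 (by
    have h1 : ((QuotientGroup.mk' O).domRestrict (S : Subgroup G)) ⟨a, zS_le ha⟩ = 1 := e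
    exact congrArg Subtype.val (hinj (h1.trans (map_one _).symm)))
  show (Tb : Subgroup (G ⧸ O)).Normal
  refine normal_of_central hut le_rfl hO' fun b hb => central_of_fixed hut hO' hb fun n hn => ?_
  refine fix_zS hut hn hab ha1' ?_ hb
  rw [mem_center_iff.1 hcb n, mul_inv_cancel_right]

theorem closed_centralizer {a : G} (ha : a ∈ zS S) (ha1 : a ≠ 1) :
    CoreClosed ↥(centralizer ({a} : Set G)) := by
  have : Fact (Nat.Prime 2) := ⟨Nat.prime_two⟩
  have hle := le_centralizer_of_mem_zS ha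
  refine coreClosed_of_central (S := S.subtype hle)
    (ut_of_equiv (subgroupOfEquivOfLe hle).symm h)
    (a := ⟨a, mem_centralizer_singleton_iff.2 rfl⟩)
    (mem_zS.2 ⟨show a ∈ (S : Subgroup G) from zS_le ha, fun s hs => Subtype.ext ((mem_zS.1 ha).2 _ hs)⟩)
    (fun e => ha1 (congrArg Subtype.val e))
    (mem_center_iff.2 fun g => Subtype.ext (mem_centralizer_singleton_iff.1 g.2))

/-- `C(a) = O(C(a)) (C(a) ∩ N(S))`. -/
theorem centralizer_decomp {a g : G} (ha : a ∈ zS S) (ha1 : a ≠ 1)
    (hg : g ∈ centralizer ({a} : Set G)) :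
    ∃ k ∈ cc a, ∃ n ∈ normalizer ((S : Subgroup G) : Set G),
      n ∈ centralizer ({a} : Set G) ∧ g = k * n := by
  set C := centralizer ({a} : Set G)
  haveI : (Cfsg.oddCore C).Normal := Cfsg.pPrimeCore_normal 2 _
  have h1 := closed_centralizer h ha ha1 (S.subtype (le_centralizer_of_mem_zS ha))
  obtain ⟨k, hk, n, hn, e⟩ := mem_sup_of_normal_left.1 (h1 ▸ mem_top (⟨g, hg⟩ : C))
  have key : ∀ m ∈ normalizer (((S : Subgroup G).subgroupOf C : Subgroup C) : Set C),
      ∀ s ∈ (S : Subgroup G), (m : G) * s * (m : G)⁻¹ ∈ (S : Subgroup G) := fun m hm s hs =>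
    (mem_normalizer_iff.1 hm ⟨s, le_centralizer_of_mem_zS ha hs⟩).1 hs
  refine ⟨k, ⟨k, hk, rfl⟩, n, mem_normalizer_iff.2 fun s => ⟨key n hn s, fun hs => ?_⟩, n.2,
    (congrArg Subtype.val e).symm⟩
  have := key n⁻¹ (inv_mem hn) _ hs
  rwa [coe_inv, inv_inv, show (n : G)⁻¹ * (n * s * (n : G)⁻¹) * n = s by group] at this

/-- An element of odd order centralising `S` lies in the core of `C(a)`. -/
theorem mem_cc_of_commute {a w : G} (ha : a ∈ zS S) (ha1 : a ≠ 1) (hw : Odd (orderOf w))
    (hc : ∀ s ∈ (S : Subgroup G), w * s = s * w) : w ∈ cc a := by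
  have : Fact (Nat.Prime 2) := ⟨Nat.prime_two⟩
  set C := centralizer ({a} : Set G)
  set O := Cfsg.oddCore C
  haveI : O.Normal := Cfsg.pPrimeCore_normal 2 _
  have hcl := closed_centralizer h ha ha1
  haveI := solvable_of_coreClosed hcl
  let T : Sylow 2 C := S.subtype (le_centralizer_of_mem_zS ha)
  set Tb : Sylow 2 (C ⧸ O) := T.mapSurjective (QuotientGroup.mk'_surjective O)
  have hR : centralizer (Cfsg.pCore 2 (C ⧸ O) : Set (C ⧸ O)) ≤ Cfsg.pCore 2 (C ⧸ O) :=
    CfsgLib.PLocal.isPConstrained_iff.1 (ThreeOrders.isPConstrained_of_solvable C)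
  let w' : C := ⟨w, mem_centralizer_singleton_iff.2 (hc a (zS_le ha))⟩
  have h1 : QuotientGroup.mk' O w' ∈ Cfsg.pCore 2 (C ⧸ O) := hR (mem_centralizer_iff.2 fun r hr => by
    obtain ⟨t, ht, rfl⟩ := CfsgLib.PCore.pCore_le_sylow Tb hr
    rw [← map_mul, ← map_mul]
    exact congrArg _ (Subtype.ext (hc _ ht).symm))
  have h2 : QuotientGroup.mk' O w' = 1 := by
    refine CfsgLib.LocalEvenCharP.eq_one_of_coprime_of_mem
      (CfsgLib.LocalEvenCharP.isPGroup_pCore 2 _) h1 (Nat.coprime_two_right.2 ?_)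
    exact hw.of_dvd_nat ((orderOf_map_dvd _ w').trans (by rw [← orderOf_coe]))
  exact ⟨w', (QuotientGroup.eq_one_iff w').1 h2, rfl⟩

/-- `O(C(a)) ∩ N(S)` centralises `S`. -/
theorem commute_of_cc_normalizer {a g : G} (ha : a ∈ zS S) (hg : g ∈ cc a)
    (hn : g ∈ normalizer ((S : Subgroup G) : Set G)) {s : G} (hs : s ∈ (S : Subgroup G)) :
    g * s = s * g := by
  have h1 : g * (s * g⁻¹ * s⁻¹) ∈ cc a :=
    mul_mem hg (conj_mem_cc ((mem_zS.1 ha).2 s hs) (inv_mem hg))
  have h2 : g * (s * g⁻¹ * s⁻¹) ∈ (S : Subgroup G) := by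
    rw [show g * (s * g⁻¹ * s⁻¹) = g * s * g⁻¹ * s⁻¹ by group]
    exact mul_mem ((mem_normalizer_iff.1 hn s).1 hs) (inv_mem hs)
  have h3 := eq_one_of_odd_of_mem h2 (odd_orderOf_cc h1)
  calc g * s = g * (s * g⁻¹ * s⁻¹) * (s * g) := by group
    _ = s * g := by rw [h3, one_mul]

end CfsgLib.UThreeSylow
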